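import Cfsg.Agent.E82.U4.Lin
import Cfsg.Agent.H180.U42Conj
import Cfsg.Agent.S0279

/-!
# S3369, row `U₄(2)`: words in seven letters (helper39)

Letters `0 1 2` : the diagonal elements `c₀ c₁ c₂`; `3 4 5` : the transpositions; `6` : the element `i` of order four.
* `W l`, `cw l` : the element of a word and its code; `FW ρ ws` : the common fixed space of words; `md` : equality on it.
-/

set_option autoImplicit false
set_option linter.unusedSectionVars false
set_option maxRecDepth 100000

namespace Cfsg.Agent.E82.U4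

open Module
open Cfsg.Agent.Lib.FieldFour (F4)
open Cfsg.Agent.H180.U42 (GG genG evG IsCode isCode_ev isCode_one isCode_gen cmp ev gen one act act_mul act_one e1 SW TW norm_mem
  norm_act NC_spec stab_eq vc_inj)

/-- the letters in the generators -/
def lw : ℕ → List ℕ
  | 0 => [1, 0, 1, 1, 0, 0, 1]
  | 1 => [0, 1, 1, 0, 1, 1]
  | 2 => [0, 1, 1, 0, 0, 1, 1]
  | 3 => [1, 1, 2, 2, 1, 1]
  | 4 => [1, 1, 1, 2, 2, 1]
  | 5 => [2, 2]
  | _ => [0, 0, 2, 2, 1, 1, 2, 2, 2, 1]

/-- the codes of the letters -/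
def lc : ℕ → ℕ
  | 0 => 4665747012502160130
  | 1 => 4665782128020816642
  | 2 => 13871104650713498370
  | 3 => 9241421688489445380
  | 4 => 9241395249175069185
  | 5 => 2310487621341807105
  | _ => 9241432705703226651

theorem lc_eq (k : ℕ) : ev (lw k) = lc k := by
  match k with
  | 0 => decide +kernel
  | 1 => decide +kernel
  | 2 => decide +kernel
  | 3 => decide +kernel
  | 4 => decide +kernel
  | 5 => decide +kernel
  | (n + 6) => show ev [0, 0, 2, 2, 1, 1, 2, 2, 2, 1] = 9241432705703226651; decide +kernel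

/-- the code of a word -/
def cw (l : List ℕ) : ℕ := l.foldr (fun k n => cmp (lc k) n) one

/-- the element of a word -/
def W (l : List ℕ) : GG := (l.map fun k => evG (lw k)).prod

theorem W_nil : W [] = 1 := rfl

theorem W_cons (k : ℕ) (l : List ℕ) : W (k :: l) = evG (lw k) * W l := by rw [W, List.map_cons, List.prod_cons]; rfl

theorem W_append (a b : List ℕ) : W (a ++ b) = W a * W b := by rw [W, List.map_append, List.prod_append]; rfl

theorem isCode_W (l : List ℕ) : IsCode (W l) (cw l) := by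
  induction l with
  | nil => exact isCode_one
  | cons k l ih =>
    rw [W_cons]
    have h := isCode_ev (lw k)
    rw [lc_eq] at h
    exact h.mul ih

theorem W_eq {a b : List ℕ} (h : cw a = cw b) : W a = W b := (isCode_W a).eq (isCode_W b) h

theorem W_one {a : List ℕ} (h : cw a = one) : W a = 1 := (isCode_W a).eq isCode_one h

theorem W_ne {a : List ℕ} (h : H180.U42.cmp (cw a) one ≠ H180.U42.cmp one one) : W a ≠ 1 := fun e =>
  h ((isCode_W a).cmp_one (e ▸ isCode_one))

theorem W_conj {g a b : List ℕ} (h : cw (g ++ a) = cw (b ++ g)) : W g * W a * (W g)⁻¹ = W b := by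
  rw [← W_append, W_eq h, W_append, mul_inv_cancel_right]

theorem W_inv {a b : List ℕ} (h : cw (a ++ b) = one) : (W a)⁻¹ = W b := by
  rw [inv_eq_iff_mul_eq_one, ← W_append, W_one h]

theorem W_cube {a : List ℕ} (h : cw (a ++ a ++ a) = one) : W a ^ 3 = 1 := by
  rw [pow_succ, pow_two, ← W_append, ← W_append, W_one h]

theorem W_comm {a b : List ℕ} (h : cw (a ++ b) = cw (b ++ a)) : W a * W b = W b * W a := by
  rw [← W_append, ← W_append, W_eq h]

/-- the generators generate -/
theorem gen_top {P : Subgroup GG} (h : ∀ k, genG k ∈ P) (g : GG) : g ∈ P := by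
  have hev : ∀ w, evG w ∈ P := fun w => by
    induction w with
    | nil => exact P.one_mem
    | cons k w ih => exact P.mul_mem (h k) ih
  obtain ⟨p, hp, hpv⟩ := norm_mem (norm_act g)
  obtain ⟨-, hp1⟩ := NC_spec hp
  rw [hpv] at hp1
  have e := vc_inj hp1
  have hu := P.mul_mem (hev (SW.getD p.2.2 [])) (hev (TW.getD p.2.1 []))
  generalize evG (SW.getD p.2.2 []) * evG (TW.getD p.2.1 []) = u at e hu
  obtain ⟨w, -, h2⟩ := stab_eq (u⁻¹ * g) (by rw [act_mul, ← e, ← act_mul, inv_mul_cancel, act_one])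
  rw [← mul_inv_cancel_left u g, h2]
  exact P.mul_mem hu (hev w)

theorem mk_inj : Function.Injective (QuotientGroup.mk' (Subgroup.center GG)) := by
  have h : Nat.card (Subgroup.center GG) = 1 := by
    rw [Cfsg.Agent.S0279.result (F := F4) (q := 2) rfl 4 (by norm_num)]
    rfl
  rw [← MonoidHom.ker_eq_bot_iff, QuotientGroup.ker_mk']
  exact Subgroup.eq_bot_of_card_eq _ h

/-- the word of `z` -/
def wz : List ℕ := [0, 1, 2, 2]

/-- the word of `d` -/
def wd : List ℕ := [0, 0, 1]

/-- the word of `e` -/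
def we : List ℕ := [1, 1, 2]

/-- the word of `ρ` -/
def wr : List ℕ := [3, 4]

/-- the word of `κ` -/
def wk : List ℕ := [3, 5]

variable {k V : Type*} [Field k] [AddCommGroup V] [Module k V] [Module.Finite k V] (ρ : GG →* End k V)

/-- the operator of a word -/
def R (l : List ℕ) : End k V := ρ (W l)

/-- the common fixed space -/
def FW (ws : List (List ℕ)) : Submodule k V where
  carrier := {v | ∀ w ∈ ws, R ρ w v = v}
  add_mem' := fun ha hb w hw => by rw [map_add, ha w hw, hb w hw]
  zero_mem' := fun w _ => map_zero _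
  smul_mem' := fun c v hv w hw => by rw [map_smul, hv w hw]

/-- its dimension -/
noncomputable def df (ws : List (List ℕ)) : ℕ := finrank k (FW ρ ws)

variable {ρ}

theorem R_mul (a b : List ℕ) : R ρ (a ++ b) = R ρ a * R ρ b := by rw [R, W_append, map_mul]; rfl

theorem R_app (a b : List ℕ) (v : V) : R ρ (a ++ b) v = R ρ a (R ρ b v) := by rw [R_mul]; rfl

theorem R_nil (v : V) : R ρ [] v = v := by rw [R, W_nil, map_one]; rfl

theorem R_eq {a b : List ℕ} (h : cw a = cw b) (v : V) : R ρ a v = R ρ b v := by rw [R, W_eq h]; rfl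

theorem R_eq2 {a b c : List ℕ} (h : cw (a ++ b) = cw c) (v : V) : R ρ a (R ρ b v) = R ρ c v := by rw [← R_app, R_eq h]

theorem R_eq22 {a b c d : List ℕ} (h : cw (a ++ b) = cw (c ++ d)) (v : V) : R ρ a (R ρ b v) = R ρ c (R ρ d v) := by
  rw [← R_app, R_eq h, R_app]

theorem R_inj (a : List ℕ) : Function.Injective (R ρ a) := fun u v h => by
  have h1 : ∀ x, ρ (W a)⁻¹ (R ρ a x) = x := fun x => by
    rw [R, ← End.mul_apply, ← map_mul, inv_mul_cancel, map_one, End.one_apply]
  rw [← h1 u, h, h1]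

theorem mem_FW {ws : List (List ℕ)} {v : V} : v ∈ FW ρ ws ↔ ∀ w ∈ ws, R ρ w v = v := Iff.rfl

theorem FW_nil : FW ρ [] = ⊤ := eq_top_iff.2 fun _ _ _ h => absurd h List.not_mem_nil

theorem FW_cons (w : List ℕ) (ws : List (List ℕ)) : FW ρ (w :: ws) = FW ρ ws ⊓ fx (R ρ w) := by
  ext v
  rw [Submodule.mem_inf, mem_fx, mem_FW, mem_FW, List.forall_mem_cons, and_comm]

theorem FW_one (w : List ℕ) : FW ρ [w] = fx (R ρ w) := by rw [FW_cons, FW_nil, top_inf_eq]

/-- the products of powers -/
def en (cs : List ℕ) : List ℕ := cs.foldr (fun c l => l ++ (l.map (cmp c) ++ l.map (cmp (cmp c c)))) [one]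

theorem en_spec {us : List (List ℕ)} {v : V} (hv : v ∈ FW ρ us) : ∀ c ∈ en (us.map cw), ∃ g, IsCode g c ∧ ρ g v = v := by
  induction us with
  | nil =>
    intro c hc
    rw [List.mem_singleton.1 hc]
    exact ⟨1, isCode_one, by rw [map_one]; rfl⟩
  | cons u us ih =>
    have h1 := ih fun w hw => hv w (List.mem_cons_of_mem _ hw)
    have h2 : ρ (W u) v = v := hv u List.mem_cons_self
    intro c hc
    have hc' : c ∈ en (us.map cw) ++ ((en (us.map cw)).map (H180.U42.cmp (cw u)) ++
      (en (us.map cw)).map (H180.U42.cmp (H180.U42.cmp (cw u) (cw u)))) := hc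
    simp only [List.mem_append, List.mem_map] at hc'
    rcases hc' with h | ⟨x, hx, rfl⟩ | ⟨x, hx, rfl⟩
    · exact h1 c h
    · obtain ⟨g, h3, h4⟩ := h1 x hx
      exact ⟨W u * g, (isCode_W u).mul h3, by rw [map_mul, End.mul_apply, h4, h2]⟩
    · obtain ⟨g, h3, h4⟩ := h1 x hx
      exact ⟨W u * W u * g, ((isCode_W u).mul (isCode_W u)).mul h3, by
        rw [map_mul, map_mul, End.mul_apply, End.mul_apply, h4, h2, h2]⟩

/-- equality on the fixed space -/
def md (us : List (List ℕ)) (a b : List ℕ) : Bool := (en (us.map cw)).any fun c => Nat.beq (cw a) (cmp (cw b) c)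

theorem md_spec {us : List (List ℕ)} {a b : List ℕ} (h : md us a b = true) {v : V} (hv : v ∈ FW ρ us) : R ρ a v = R ρ b v := by
  obtain ⟨c, hc, h1⟩ := List.any_eq_true.1 h
  obtain ⟨g, h2, h3⟩ := en_spec hv c hc
  rw [R, (isCode_W a).eq ((isCode_W b).mul h2) (Nat.eq_of_beq_eq_true h1), map_mul, End.mul_apply, h3, R]

theorem md_fix {us : List (List ℕ)} {a : List ℕ} (h : md us a [] = true) {v : V} (hv : v ∈ FW ρ us) : R ρ a v = v := by
  rw [md_spec h hv, R_nil]

/-- `g` maps one fixed space into another one -/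
def mp (us ws : List (List ℕ)) (g : List ℕ) : Bool := ws.all fun w => md us (w ++ g) g

theorem mp_spec {us ws : List (List ℕ)} {g : List ℕ} (h : mp us ws g = true) {v : V} (hv : v ∈ FW ρ us) :
    R ρ g v ∈ FW ρ ws := fun w hw => by rw [← R_app, md_spec (List.all_eq_true.1 h w hw) hv]

theorem mp_le {us ws : List (List ℕ)} (h : mp us ws [] = true) : FW ρ us ≤ FW ρ ws := fun v hv => by
  have h1 := mp_spec h hv
  rwa [R_nil] at h1

theorem df_le {us ws : List (List ℕ)} (g : List ℕ) (h : mp us ws g = true) : df ρ us ≤ df ρ ws := by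
  have h1 : (FW ρ us).map (R ρ g) ≤ FW ρ ws := by
    rintro _ ⟨v, hv, rfl⟩
    exact mp_spec h hv
  have h2 := Submodule.finrank_mono h1
  rwa [← (Submodule.equivMapOfInjective _ (R_inj g) (FW ρ us)).finrank_eq] at h2

theorem FW_three (w : List ℕ) : FW ρ [w, w, w] = FW ρ [w] := by
  ext v
  simp only [mem_FW, List.mem_cons, List.not_mem_nil, or_false, or_self]

/-- a power may be omitted -/
theorem df_pow {w a : List ℕ} (h : md [w, w, w] a [] = true) : df ρ [w, a] = df ρ [w] := by
  have h1 : FW ρ [w, a] = FW ρ [w] := by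
    refine le_antisymm (fun v hv u hu => hv u (by rw [List.mem_singleton.1 hu]; exact List.mem_cons_self)) fun v hv u hu => ?_
    rcases List.mem_cons.1 hu with rfl | hu
    · exact hv u List.mem_cons_self
    · rw [List.mem_singleton.1 hu]
      exact md_fix h (by rw [FW_three]; exact hv)
  rw [df, h1, df]

/-- the conditions for the formula -/
def okW (ws : List (List ℕ)) (a b : List ℕ) : Bool :=
  mp ws ws a && mp ws ws b && md ws (a ++ (a ++ a)) [] && md ws (b ++ (b ++ b)) [] && md ws (a ++ b) (b ++ a)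

theorem wielF (h2 : (2 : k) = 0) (ws : List (List ℕ)) (a b : List ℕ) (h : okW ws a b = true) :
    df ρ ws + 3 * df ρ (b :: a :: ws) = df ρ (a :: ws) + df ρ (b :: ws) + df ρ ((a ++ b) :: ws) + df ρ ((a ++ b ++ b) :: ws) := by
  simp only [okW, Bool.and_eq_true] at h
  obtain ⟨⟨⟨⟨h1, h3⟩, h4⟩, h5⟩, h6⟩ := h
  unfold df
  rw [FW_cons b, FW_cons a, FW_cons b, FW_cons (a ++ b), FW_cons (a ++ b ++ b), R_mul (a ++ b), R_mul]
  exact wielW (W := FW ρ ws) (A := R ρ a) (B := R ρ b) h2 (fun v hv => mp_spec h1 hv) (fun v hv => mp_spec h3 hv)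
    (fun v hv => by rw [← R_app, ← R_app, List.append_assoc, md_fix h4 hv])
    (fun v hv => by rw [← R_app, ← R_app, List.append_assoc, md_fix h5 hv])
    (fun v hv => by rw [← R_app, ← R_app, md_spec h6 hv])

/-- **a vector fixed by the six words is fixed by the group** -/
theorem fix_all {v : V} (hv : v ∈ FW ρ [[6], wk, wr, we, wd, wz]) (g : GG) : ρ g v = v := by
  let P : Subgroup GG :=
    { carrier := {g | ρ g v = v}
      mul_mem' := fun {a b} ha hb => by
        show ρ (a * b) v = v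
        rw [map_mul, End.mul_apply, show ρ b v = v from hb, show ρ a v = v from ha]
      one_mem' := by
        show ρ 1 v = v
        rw [map_one, End.one_apply]
      inv_mem' := fun {a} ha => by
        show ρ a⁻¹ v = v
        conv_lhs => rw [← show ρ a v = v from ha]
        rw [← End.mul_apply, ← map_mul, inv_mul_cancel, map_one, End.one_apply] }
  simp only [mem_FW, List.forall_mem_cons] at hv
  obtain ⟨hi, hk, hr, he, hd, hz, -⟩ := hv
  refine gen_top (P := P) (fun n => ?_) g
  show ρ (genG n) v = v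
  match n with
  | 0 =>
    rw [(isCode_gen 0).eq (isCode_W (wz ++ wd)) (by decide +kernel), ← R, R_app, hd, hz]
  | 1 =>
    rw [(isCode_gen 1).eq (isCode_W (wr ++ (wk ++ ([6] ++ [6])))) (by decide +kernel), ← R, R_app, R_app, R_app, hi, hi, hk, hr]
  | (n + 2) =>
    have h1 : IsCode (genG (n + 2)) (gen 2) := isCode_gen (n + 2)
    rw [h1.eq (isCode_W (wd ++ (wr ++ (wk ++ ([6] ++ (wk ++ ([6] ++ ([6] ++ (wr ++ (we ++ wk)))))))))) (by decide +kernel), ← R]
    simp only [R_app, hi, hk, hr, he, hd]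

variable {B : V →ₗ[k] V →ₗ[k] k}

/-- the conditions for `Tet` -/
def okT (ws : List (List ℕ)) (e i j l : List ℕ) : Bool :=
  mp ws ws e && mp ws ws i && mp ws ws j && mp ws ws l && md ws (e ++ (e ++ e)) [] && md ws (e ++ i) (j ++ e) &&
    md ws (e ++ j) (l ++ e) && md ws (e ++ l) (i ++ e)

theorem tet_of {ws : List (List ℕ)} {e i j l : List ℕ} (h : okT ws e i j l = true) (hs : ∀ u v, B u v = B v u)
    (hi : ∀ g u v, B (ρ g u) (ρ g v) = B u v) (hn : Nd B (FW ρ ws)) :
    Tet B (FW ρ ws) (R ρ e) (R ρ i) (R ρ j) (R ρ l) := by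
  simp only [okT, Bool.and_eq_true] at h
  obtain ⟨⟨⟨⟨⟨⟨⟨h1, h2⟩, h3⟩, h4⟩, h5⟩, h6⟩, h7⟩, h8⟩ := h
  exact ⟨hn, hs, fun v hv => mp_spec h1 hv, fun v hv => mp_spec h2 hv, fun v hv => mp_spec h3 hv, fun v hv => mp_spec h4 hv,
    hi _, hi _, hi _, hi _, fun v hv => by rw [← R_app, ← R_app, List.append_assoc, md_fix h5 hv],
    fun v hv => by rw [← R_app, ← R_app, md_spec h6 hv], fun v hv => by rw [← R_app, ← R_app, md_spec h7 hv],
    fun v hv => by rw [← R_app, ← R_app, md_spec h8 hv]⟩

theorem nd_cons (h2 : (2 : k) = 0) (hi : ∀ g u v, B (ρ g u) (ρ g v) = B u v) {ws : List (List ℕ)} {a : List ℕ}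
    (h : (mp ws ws a && md ws (a ++ (a ++ a)) []) = true) (hn : Nd B (FW ρ ws)) : Nd B (FW ρ (a :: ws)) := by
  rw [Bool.and_eq_true] at h
  rw [FW_cons]
  exact hn.fx h2 (fun v hv => mp_spec h.1 hv) (fun v hv => by rw [← R_app, ← R_app, List.append_assoc, md_fix h.2 hv]) (hi _)

end Cfsg.Agent.E82.U4
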