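import Cfsg.Agent.H259.L34.VE

/-!
# S3369, row `U₄(2)`: linear algebra in characteristic two (helper39)

* `wielW` : the formula for two commuting operators of order three on a subspace;
* `Nd B W` : the form is non-degenerate on `W`; `orth_dim`, `exists_pr`;
* `a4a`, `a4b` : fixed vectors of `A₄` on a self-dual module; `q8` : the lemma for `SL₂(3)`.
-/

set_option autoImplicit false
set_option linter.unusedSectionVars false

namespace Cfsg.Agent.E82.U4

open Module

variable {k V : Type*} [Field k] [AddCommGroup V] [Module k V] [Module.Finite k V]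

/-- the fixed space -/
def fx (A : End k V) : Submodule k V := LinearMap.ker (A - LinearMap.id)

theorem mem_fx {A : End k V} {v : V} : v ∈ fx A ↔ A v = v := by
  rw [fx, LinearMap.mem_ker, LinearMap.sub_apply, LinearMap.id_apply, sub_eq_zero]

theorem dim_comap (W U : Submodule k V) : finrank k (U.comap W.subtype) = finrank k ↥(W ⊓ U) := by
  rw [← Submodule.finrank_map_subtype_eq W, Submodule.map_comap_subtype]

theorem dim_map_add {V' : Type*} [AddCommGroup V'] [Module k V'] (X : V →ₗ[k] V') (W : Submodule k V) :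
    finrank k (W.map X) + finrank k ↥(W ⊓ LinearMap.ker X) = finrank k W := by
  have h := LinearMap.finrank_range_add_finrank_ker (X.domRestrict W)
  rw [LinearMap.range_domRestrict, LinearMap.ker_domRestrict, dim_comap] at h
  exact h

theorem fx_restrict {A : End k V} {W : Submodule k V} (h : ∀ v ∈ W, A v ∈ W) :
    LinearMap.ker (A.restrict h - LinearMap.id) = (fx A).comap W.subtype := by
  ext v
  rw [Submodule.mem_comap, mem_fx, LinearMap.mem_ker, LinearMap.sub_apply, LinearMap.id_apply, sub_eq_zero, Subtype.ext_iff]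
  rfl

/-- **two commuting operators of order three on a subspace** -/
theorem wielW (h2 : (2 : k) = 0) {A B : End k V} {W : Submodule k V} (hA : ∀ v ∈ W, A v ∈ W) (hB : ∀ v ∈ W, B v ∈ W)
    (a3 : ∀ v ∈ W, A (A (A v)) = v) (b3 : ∀ v ∈ W, B (B (B v)) = v) (hc : ∀ v ∈ W, A (B v) = B (A v)) :
    finrank k W + 3 * finrank k ↥(W ⊓ fx A ⊓ fx B) = finrank k ↥(W ⊓ fx A) + finrank k ↥(W ⊓ fx B) +
      finrank k ↥(W ⊓ fx (A * B)) + finrank k ↥(W ⊓ fx (A * B * B)) := by
  have hAB : ∀ v ∈ W, (A * B) v ∈ W := fun v hv => hA _ (hB v hv)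
  have hABB : ∀ v ∈ W, (A * B * B) v ∈ W := fun v hv => hAB _ (hB v hv)
  have h := Cfsg.Agent.H259.L34.wiel (A := A.restrict hA) (B := B.restrict hB) h2
    (LinearMap.ext fun v => Subtype.ext (a3 v v.2)) (LinearMap.ext fun v => Subtype.ext (b3 v v.2))
    (LinearMap.ext fun v => Subtype.ext (hc v v.2))
  have e1 : A.restrict hA * B.restrict hB = (A * B).restrict hAB := rfl
  have e2 : (A * B).restrict hAB * B.restrict hB = (A * B * B).restrict hABB := rfl
  rw [e1, e2, fx_restrict, fx_restrict, fx_restrict, fx_restrict, ← Submodule.comap_inf, dim_comap, dim_comap, dim_comap,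
    dim_comap, dim_comap, ← inf_assoc] at h
  exact h

theorem sq_zero_dim {X : End k V} {W : Submodule k V} (h : ∀ v ∈ W, X v ∈ W) (h2 : ∀ v ∈ W, X (X v) = 0) :
    2 * finrank k (W.map X) ≤ finrank k W := by
  have h1 := dim_map_add X W
  have h3 : W.map X ≤ W ⊓ LinearMap.ker X := by
    rintro _ ⟨v, hv, rfl⟩
    exact ⟨h v hv, h2 v hv⟩
  have h4 := Submodule.finrank_mono h3
  omega

theorem inf_dim {W U U' : Submodule k V} (h : U ≤ W) (h' : U' ≤ W) :
    finrank k U + finrank k U' ≤ finrank k W + finrank k ↥(U ⊓ U') := by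
  have h1 := Submodule.finrank_sup_add_finrank_inf_eq U U'
  have h2 := Submodule.finrank_mono (sup_le h h')
  omega

theorem exists_ne_of_dim {U : Submodule k V} (h : 0 < finrank k U) : ∃ v ∈ U, v ≠ 0 := by
  apply Submodule.exists_mem_ne_zero_of_ne_bot
  rintro rfl
  rw [finrank_bot] at h
  exact lt_irrefl _ h

variable (B : V →ₗ[k] V →ₗ[k] k)

/-- non-degenerate on a subspace -/
def Nd (W : Submodule k V) : Prop := ∀ w ∈ W, (∀ w' ∈ W, B w w' = 0) → w = 0

variable {B}

theorem orth_dim {W U U' : Submodule k V} (hW : Nd B W) (h : U ≤ W) (h' : U' ≤ W) (ho : ∀ u ∈ U, ∀ u' ∈ U', B u u' = 0) :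
    finrank k U + finrank k U' ≤ finrank k W := by
  let Φ : ↥U →ₗ[k] Dual k ↥W := (B.compl₂ W.subtype).domRestrict U
  have h1 : Function.Injective Φ := (injective_iff_map_eq_zero Φ).2 fun u hu =>
    Subtype.ext (hW u (h u.2) fun w hw => LinearMap.congr_fun hu ⟨w, hw⟩)
  have h2 : LinearMap.range Φ ≤ (U'.comap W.subtype).dualAnnihilator := by
    rintro _ ⟨u, rfl⟩
    rw [Submodule.mem_dualAnnihilator]
    exact fun w hw => ho u u.2 w hw
  have h3 := Submodule.finrank_mono h2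
  have h4 := Subspace.finrank_add_finrank_dualAnnihilator_eq (U'.comap W.subtype)
  rw [LinearMap.finrank_range_of_inj h1] at h3
  rw [dim_comap, inf_eq_right.2 h'] at h4
  omega

theorem exists_pr {W : Submodule k V} (hW : Nd B W) (c : V) : ∃ u ∈ W, ∀ v ∈ W, B u v = B c v := by
  let Φ : ↥W →ₗ[k] Dual k ↥W := (B.compl₂ W.subtype).domRestrict W
  have h1 : Function.Injective Φ := (injective_iff_map_eq_zero Φ).2 fun u hu =>
    Subtype.ext (hW u u.2 fun w hw => LinearMap.congr_fun hu ⟨w, hw⟩)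
  have h2 : Function.Surjective Φ :=
    (LinearMap.injective_iff_surjective_of_finrank_eq_finrank (Subspace.dual_finrank_eq (K := k) (V := ↥W)).symm).1 h1
  obtain ⟨u, hu⟩ := h2 ((B c).domRestrict W)
  exact ⟨u, u.2, fun v hv => LinearMap.congr_fun hu ⟨v, hv⟩⟩

theorem Nd.ext {W : Submodule k V} (hW : Nd B W) {u u' : V} (h : u ∈ W) (h' : u' ∈ W) (e : ∀ v ∈ W, B u v = B u' v) :
    u = u' := by
  rw [← sub_eq_zero]
  exact hW _ (W.sub_mem h h') fun v hv => by rw [map_sub, LinearMap.sub_apply, e v hv, sub_self]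

section two

variable (h2 : (2 : k) = 0)
include h2

theorem kself (a : k) : a + a = 0 := by rw [← two_mul, h2, zero_mul]

theorem vself (v : V) : v + v = 0 := by rw [← two_smul k, h2, zero_smul]

theorem Nd.fx {W : Submodule k V} (hW : Nd B W) {A : End k V} (hA : ∀ v ∈ W, A v ∈ W) (a3 : ∀ v ∈ W, A (A (A v)) = v)
    (hi : ∀ u v, B (A u) (A v) = B u v) : Nd B (W ⊓ fx A) := by
  rintro w ⟨hw, hw'⟩ h
  rw [SetLike.mem_coe, mem_fx] at hw'
  refine hW w hw fun v hv => ?_
  have h1 : ∀ u, B w (A u) = B w u := fun u => by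
    conv_lhs => rw [← hw']
    exact hi w u
  have h3 := h (v + A v + A (A v)) ⟨W.add_mem (W.add_mem hv (hA v hv)) (hA _ (hA v hv)), by
    rw [SetLike.mem_coe, mem_fx, map_add, map_add, a3 v hv]
    abel⟩
  rw [map_add, map_add, h1 (A v), h1 v, kself h2, zero_add] at h3
  exact h3

end two

variable (B) in
/-- the operators of `A₄` or `SL₂(3)` on a subspace : `e` of order three permutes `i j l` -/
structure Tet (W : Submodule k V) (e i j l : End k V) : Prop where
  nd : Nd B W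
  sym : ∀ u v, B u v = B v u
  se : ∀ v ∈ W, e v ∈ W
  si : ∀ v ∈ W, i v ∈ W
  sj : ∀ v ∈ W, j v ∈ W
  sl : ∀ v ∈ W, l v ∈ W
  be : ∀ u v, B (e u) (e v) = B u v
  bi : ∀ u v, B (i u) (i v) = B u v
  bj : ∀ u v, B (j u) (j v) = B u v
  bl : ∀ u v, B (l u) (l v) = B u v
  e3 : ∀ v ∈ W, e (e (e v)) = v
  ei : ∀ v ∈ W, e (i v) = j (e v)
  ej : ∀ v ∈ W, e (j v) = l (e v)
  el : ∀ v ∈ W, e (l v) = i (e v)

variable (B) in
/-- the case of `A₄` -/
structure Alt (W : Submodule k V) (e i j l : End k V) : Prop extends Tet B W e i j l where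
  ii : ∀ v ∈ W, i (i v) = v
  ij : ∀ v ∈ W, i (j v) = l v
  ji : ∀ v ∈ W, j (i v) = l v

namespace Alt

variable {W : Submodule k V} {e i j l : End k V} (h : Alt B W e i j l)
include h

theorem il : ∀ v ∈ W, i (l v) = j v := fun v hv => by rw [← h.ij v hv, h.ii _ (h.sj v hv)]

theorem jj : ∀ v ∈ W, j (j v) = v := fun v hv => by
  have hw := h.se _ (h.se v hv)
  rw [← h.e3 v hv, ← h.ei _ hw, ← h.ei _ (h.si _ hw), h.ii _ hw]

theorem ll : ∀ v ∈ W, l (l v) = v := fun v hv => by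
  have hw := h.se _ (h.se v hv)
  rw [← h.e3 v hv, ← h.ej _ hw, ← h.ej _ (h.sj _ hw), h.jj _ hw]

theorem jl : ∀ v ∈ W, j (l v) = i v := fun v hv => by rw [← h.ji v hv, h.jj _ (h.si v hv)]

theorem lj : ∀ v ∈ W, l (j v) = i v := fun v hv => by rw [← h.ij _ (h.sj v hv), h.jj v hv]

theorem adj_i {u : V} (v : V) (hu : u ∈ W) : B u (i v) = B (i u) v := by rw [← h.bi (i u), h.ii u hu]

theorem adj_j {u : V} (v : V) (hu : u ∈ W) : B u (j v) = B (j u) v := by rw [← h.bj (j u), h.jj u hu]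

theorem adj_l {u : V} (v : V) (hu : u ∈ W) : B u (l v) = B (l u) v := by rw [← h.bl (l u), h.ll u hu]

theorem ker_al (h2 : (2 : k) = 0) : W ⊓ fx e ⊓ LinearMap.ker (j + l) ≤ W ⊓ fx e ⊓ fx i := by
  rintro v ⟨hv, h1⟩
  refine ⟨hv, ?_⟩
  rw [SetLike.mem_coe, LinearMap.mem_ker, LinearMap.add_apply] at h1
  have h3 : j v = l v := by rw [← add_zero (j v), ← vself h2 (l v), ← add_assoc, h1, zero_add]
  rw [SetLike.mem_coe, mem_fx, ← h.jl v hv.1, ← h3, h.jj v hv.1]

/-- **the first lemma on `A₄`** -/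
theorem a4a (h2 : (2 : k) = 0) : 3 * finrank k ↥(W ⊓ fx e) ≤ finrank k W + 2 * finrank k ↥(W ⊓ fx e ⊓ fx i) := by
  have hU : (W ⊓ fx e).map (j + l) ≤ W := by
    rintro _ ⟨v, hv, rfl⟩
    exact W.add_mem (h.sj v hv.1) (h.sl v hv.1)
  have o1 : ∀ u ∈ (W ⊓ fx e).map (j + l), ∀ w ∈ W ⊓ fx e, B u w = 0 := by
    rintro _ ⟨v, hv, rfl⟩ w hw
    have h1 : B (l v) w = B (j v) w := by
      conv_lhs => rw [← mem_fx.1 hv.2, ← h.ej v hv.1, ← mem_fx.1 hw.2, h.be]
    rw [LinearMap.add_apply, map_add, LinearMap.add_apply, h1, kself h2]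
  have o2 : ∀ u ∈ (W ⊓ fx e).map (j + l), ∀ w ∈ (W ⊓ fx e).map (j + l), B u w = 0 := by
    rintro _ ⟨v, hv, rfl⟩ _ ⟨w, hw, rfl⟩
    simp only [LinearMap.add_apply, map_add]
    rw [h.bj, h.bl, h.adj_l _ (h.sj v hv.1), h.adj_j _ (h.sl v hv.1), h.lj v hv.1, h.jl v hv.1]
    linear_combination (B v w + B (i v) w) * h2
  have h3 := orth_dim h.nd hU (sup_le hU (inf_le_left : W ⊓ fx e ≤ W)) fun u hu w hw => by
    obtain ⟨a, ha, b, hb, rfl⟩ := Submodule.mem_sup.1 hw
    rw [map_add, o2 u hu a ha, o1 u hu b hb, add_zero]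
  have h4 : (W ⊓ fx e).map (j + l) ⊓ (W ⊓ fx e) = ⊥ := by
    rw [eq_bot_iff]
    rintro u ⟨hu, hu'⟩
    exact (h.nd.fx h2 h.se h.e3 h.be) u hu' (o1 u hu)
  have h5 := Submodule.finrank_sup_add_finrank_inf_eq ((W ⊓ fx e).map (j + l)) (W ⊓ fx e)
  rw [h4, finrank_bot] at h5
  have h6 := dim_map_add (j + l) (W ⊓ fx e)
  have h7 := Submodule.finrank_mono (h.ker_al h2)
  omega

/-- **the second lemma on `A₄`** -/
theorem a4b (h2 : (2 : k) = 0) (h0 : W ⊓ fx e ⊓ fx i = ⊥) : 4 * finrank k ↥(W ⊓ fx e) ≤ finrank k W := by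
  have hU : (W ⊓ fx e).map (j + l) ≤ W := by
    rintro _ ⟨v, hv, rfl⟩
    exact W.add_mem (h.sj v hv.1) (h.sl v hv.1)
  obtain ⟨N, hN⟩ : ∃ N : End k V, N = (1 + j) * (1 + i) := ⟨_, rfl⟩
  have eN : ∀ v ∈ W, N v = v + i v + j v + l v := fun v hv => by
    rw [hN]
    simp only [End.mul_apply, LinearMap.add_apply, End.one_apply, map_add]
    rw [h.ji v hv]
    abel
  have eNe : ∀ v ∈ W, N v = 0 → N (e v) = 0 := fun v hv h1 => by
    rw [eN v hv] at h1
    rw [eN _ (h.se v hv), ← h.ei v hv, ← h.ej v hv, ← h.el v hv, ← map_zero e, ← h1]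
    simp only [map_add]
    abel
  have o : ∀ u ∈ (W ⊓ fx e).map (j + l), ∀ w ∈ W ⊓ LinearMap.ker N, B u w = 0 := by
    rintro _ ⟨v, hv, rfl⟩ u ⟨hu, hu'⟩
    have u1 := h.se u hu
    have u2 := h.se _ u1
    have n1 := eNe u hu hu'
    have n2 := eNe _ u1 n1
    rw [eN _ u1] at n1
    rw [eN _ u2] at n2
    obtain ⟨x, hx⟩ : ∃ x, x = j u + l u := ⟨_, rfl⟩
    have x0 : x ∈ W := by rw [hx]; exact W.add_mem (h.sj u hu) (h.sl u hu)
    have x1 : e x = l (e u) + i (e u) := by rw [hx, map_add, h.ej u hu, h.el u hu]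
    have x2 : e (e x) = i (e (e u)) + j (e (e u)) := by rw [x1, map_add, h.el _ u1, h.ei _ u1]
    have w0 : x + e x + e (e x) ∈ W ⊓ fx e ⊓ fx i := by
      refine ⟨⟨W.add_mem (W.add_mem x0 (h.se x x0)) (h.se _ (h.se x x0)), ?_⟩, ?_⟩
      · rw [SetLike.mem_coe, mem_fx, map_add, map_add, h.e3 x x0]
        abel
      · rw [SetLike.mem_coe, mem_fx, x2, x1, hx]
        simp only [map_add]
        rw [h.ij u hu, h.il u hu, h.il _ u1, h.ii _ u1, h.ii _ u2, h.ij _ u2]
        have t1 := vself h2 (l (e u) + i (e u))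
        have t2 := vself h2 (i (e (e u)) + j (e (e u)))
        linear_combination (norm := module) n1 + n2 - t1 - t2
    rw [h0, Submodule.mem_bot] at w0
    have h1 : ∀ y, B v (e y) = B v y := fun y => by
      conv_lhs => rw [← mem_fx.1 hv.2]
      exact h.be v y
    have h3 := congrArg (B v) w0
    rw [map_add, map_add, h1 (e x), h1 x, kself h2, zero_add, map_zero, hx, map_add, h.adj_j _ hv.1, h.adj_l _ hv.1] at h3
    rw [LinearMap.add_apply, map_add, LinearMap.add_apply, h3]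
  have d1 := orth_dim h.nd hU inf_le_left o
  have d2 := dim_map_add (j + l) (W ⊓ fx e)
  have d3 := Submodule.finrank_mono (h.ker_al h2)
  rw [h0, finrank_bot] at d3
  have d4 := dim_map_add N W
  have d5 := sq_zero_dim (X := 1 + i) (W := W) (fun v hv => W.add_mem hv (h.si v hv)) fun v hv => by
    simp only [LinearMap.add_apply, End.one_apply, map_add]
    rw [h.ii v hv, add_comm (i v) v, vself h2]
  have d6 := sq_zero_dim (X := 1 + j) (W := W.map (1 + i : End k V)) (by
    rintro _ ⟨v, hv, rfl⟩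
    refine ⟨v + j v, W.add_mem hv (h.sj v hv), ?_⟩
    simp only [LinearMap.add_apply, End.one_apply, map_add]
    rw [h.ij v hv, h.ji v hv]
    abel) (by
    rintro _ ⟨v, hv, rfl⟩
    have hw : (1 + i : End k V) v ∈ W := W.add_mem hv (h.si v hv)
    generalize (1 + i : End k V) v = w at hw
    simp only [LinearMap.add_apply, End.one_apply, map_add]
    rw [h.jj w hw, add_comm (j w) w, vself h2])
  have e1 : (W.map (1 + i : End k V)).map (1 + j : End k V) = W.map N := by
    rw [← Submodule.map_comp, hN]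
    rfl
  rw [e1] at d6
  omega

end Alt

variable (B) in
/-- the case of `SL₂(3)` -/
structure Quat (W : Submodule k V) (e i j l t : End k V) : Prop extends Tet B W e i j l where
  ii : ∀ v, i (i v) = t v
  jj : ∀ v, j (j v) = t v
  ll : ∀ v, l (l v) = t v
  ij : ∀ v, i (j v) = l v
  jl : ∀ v, j (l v) = i v
  li : ∀ v, l (i v) = j v
  tt : ∀ v, t (t v) = v

theorem eig_dim (h2 : (2 : k) = 0) {W : Submodule k V} (hW : Nd B W) {e : End k V} (be : ∀ u v, B (e u) (e v) = B u v)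
    {a : k} (ha : a ^ 2 + a + 1 = 0) (hd : finrank k W ≤ finrank k ↥(W ⊓ fx e) + 2) {u u' : V} (hu : u ∈ W) (hu' : u' ∈ W)
    (e1 : e u = a • u) (e2 : e u' = a • u') (h0 : u ≠ 0) : ∃ c : k, u' = c • u := by
  have a1 : a - 1 ≠ 0 := fun h => one_ne_zero (α := k) (by linear_combination ha - (a + 2) * h - h2)
  have a2 : a * a - 1 ≠ 0 := fun h => a1 ((pow_eq_zero_iff two_ne_zero).1 (by linear_combination h + (1 - a) * h2))
  obtain ⟨X, hX⟩ : ∃ X : Submodule k V, X = W ⊓ LinearMap.ker (e - a • LinearMap.id) := ⟨_, rfl⟩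
  have mX : ∀ v, v ∈ X ↔ v ∈ W ∧ e v = a • v := fun v => by
    rw [hX, Submodule.mem_inf, LinearMap.mem_ker, LinearMap.sub_apply, LinearMap.smul_apply, LinearMap.id_apply, sub_eq_zero]
  have hXW : X ≤ W := fun v hv => ((mX v).1 hv).1
  have d1 := orth_dim hW hXW (sup_le hXW (inf_le_left : W ⊓ fx e ≤ W)) fun x hx w hw => by
    obtain ⟨y, hy, b, hb, rfl⟩ := Submodule.mem_sup.1 hw
    have h1 := be x y
    have h3 := be x b
    rw [((mX x).1 hx).2, ((mX y).1 hy).2] at h1
    rw [((mX x).1 hx).2, mem_fx.1 hb.2] at h3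
    simp only [map_smul, LinearMap.smul_apply, smul_eq_mul] at h1 h3
    have h4 : B x y = 0 := (mul_eq_zero.1 (by linear_combination h1 : (a * a - 1) * B x y = 0)).resolve_left a2
    have h5 : B x b = 0 := (mul_eq_zero.1 (by linear_combination h3 : (a - 1) * B x b = 0)).resolve_left a1
    rw [map_add, h4, h5, add_zero]
  have d2 : X ⊓ (W ⊓ fx e) = ⊥ := by
    rw [eq_bot_iff]
    rintro x ⟨hx, hx'⟩
    have h1 := ((mX x).1 hx).2
    rw [mem_fx.1 hx'.2] at h1
    have h3 : (a - 1) • x = 0 := by rw [sub_smul, one_smul, ← h1, sub_self]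
    exact (smul_eq_zero.1 h3).resolve_left a1
  have d3 := Submodule.finrank_sup_add_finrank_inf_eq X (W ⊓ fx e)
  rw [d2, finrank_bot] at d3
  have d4 : finrank k X ≤ 1 := by omega
  obtain ⟨v, hv⟩ := finrank_le_one_iff.1 d4
  obtain ⟨c, hc⟩ := hv ⟨u, (mX u).2 ⟨hu, e1⟩⟩
  obtain ⟨c', hc'⟩ := hv ⟨u', (mX u').2 ⟨hu', e2⟩⟩
  have h1 : c • (v : V) = u := congrArg Subtype.val hc
  have h3 : c' • (v : V) = u' := congrArg Subtype.val hc'
  have hc0 : c ≠ 0 := fun h => h0 (by rw [← h1, h, zero_smul])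
  exact ⟨c' * c⁻¹, by rw [← h1, smul_smul, mul_assoc, inv_mul_cancel₀ hc0, mul_one, h3]⟩

/-- the eigenoperator -/
def xo (i j l : End k V) (a : k) : End k V := i + a • j + (a * a) • l

theorem xo_apply (i j l : End k V) (a : k) (v : V) : xo i j l a v = i v + a • j v + (a * a) • l v := rfl

namespace Quat

variable {W : Submodule k V} {e i j l t : End k V} (h : Quat B W e i j l t)
include h

theorem ti (v : V) : t (i v) = i (t v) := by rw [← h.ii, ← h.ii]

theorem tj (v : V) : t (j v) = j (t v) := by rw [← h.jj, ← h.jj]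

theorem tl (v : V) : t (l v) = l (t v) := by rw [← h.ll, ← h.ll]

theorem ji (v : V) : j (i v) = t (l v) := by rw [← h.jl v, h.jj]

theorem il (v : V) : i (l v) = t (j v) := by rw [← h.ij v, h.ii]

theorem lj (v : V) : l (j v) = t (i v) := by rw [← h.li v, h.ll]

theorem adj (a : k) (v w : V) : B (xo i j l a v) w = B v (t (xo i j l a w)) := by
  have h1 : B (i v) w = B v (t (i w)) := by rw [← h.bi v, ← h.ti, h.ii, h.tt]
  have h2 : B (j v) w = B v (t (j w)) := by rw [← h.bj v, ← h.tj, h.jj, h.tt]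
  have h3 : B (l v) w = B v (t (l w)) := by rw [← h.bl v, ← h.tl, h.ll, h.tt]
  simp only [xo_apply, map_add, map_smul, LinearMap.add_apply, LinearMap.smul_apply]
  rw [h1, h2, h3]

theorem xo_mem (a : k) {v : V} (hv : v ∈ W) : xo i j l a v ∈ W :=
  W.add_mem (W.add_mem (h.si v hv) (W.smul_mem _ (h.sj v hv))) (W.smul_mem _ (h.sl v hv))

theorem xo_eig {a : k} (ha : a ^ 2 + a + 1 = 0) {v : V} (hv : v ∈ W ⊓ fx e) : e (xo i j l a v) = (a * a) • xo i j l a v := by
  have a3 : a * a * a = 1 := by linear_combination (a - 1) * ha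
  simp only [xo_apply, map_add, map_smul, smul_add, smul_smul]
  rw [h.ei v hv.1, h.ej v hv.1, h.el v hv.1, mem_fx.1 hv.2, a3, show a * a * (a * a) = a by linear_combination a * a3, one_smul]
  abel

theorem xo_comm (a b : k) {v : V} (hv : t v = v) : xo i j l a (xo i j l b v) = xo i j l b (xo i j l a v) := by
  simp only [xo_apply, map_add, map_smul]
  rw [h.ii, h.jj, h.ll, h.ij, h.jl, h.li, h.ji, h.il, h.lj, h.ti, h.tj, h.tl, hv]
  module

theorem fix_of (h2 : (2 : k) = 0) {a : k} (ha : a ^ 2 + a + 1 = 0) {v : V} (hv : v ∈ W ⊓ fx e) (h1 : xo i j l a v = 0)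
    (h3 : xo i j l (a * a) v = 0) : i v = v := by
  have a3 : a * a * a = 1 := by linear_combination (a - 1) * ha
  rw [xo_apply] at h1 h3
  have e1 : j v = l v := by
    have a4 : a * a * (a * a) = a := by linear_combination a * a3
    rw [a4] at h3
    have h4 : (a + a * a) • (j v + l v) = 0 := by
      have := vself h2 (i v)
      linear_combination (norm := module) h1 + h3 - this
    rw [show a + a * a = 1 by linear_combination ha - h2, one_smul] at h4
    rw [← add_zero (j v), ← vself h2 (l v), ← add_assoc, h4, zero_add]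
  have e2 : l v = i v := by
    have h4 := congrArg e e1
    rwa [h.ej v hv.1, h.el v hv.1, mem_fx.1 hv.2] at h4
  have e3 : t v = i v := by rw [← h.jj, e1, h.jl]
  have e4 : i (i v) = i v := by rw [h.ii, e3]
  have e5 : t (i (i (i v))) = t (i (i v)) := by rw [e4, e4]
  rwa [h.ii (i v), h.ii v, h.tt, h.tt] at e5

theorem key (h2 : (2 : k) = 0) {a : k} (ha : a ^ 2 + a + 1 = 0) (hd : finrank k W ≤ finrank k ↥(W ⊓ fx e) + 2) {v0 p : V}
    (h0 : v0 ∈ W ⊓ fx e) (hp : p ∈ W ⊓ fx e) (ht : t v0 = v0) (hx : xo i j l a v0 ≠ 0) :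
    ∃ c : k, i (p - c • v0) = p - c • v0 := by
  have a3 : a * a * a = 1 := by linear_combination (a - 1) * ha
  have a4 : a * a * (a * a) = a := by linear_combination a * a3
  have hb : (a * a) ^ 2 + a * a + 1 = 0 := by linear_combination ha + a * a3
  obtain ⟨c, hc⟩ := eig_dim h2 h.nd h.be hb hd (h.xo_mem a h0.1) (h.xo_mem a hp.1) (h.xo_eig ha h0) (h.xo_eig ha hp) hx
  have hv : p - c • v0 ∈ W ⊓ fx e := Submodule.sub_mem _ hp (Submodule.smul_mem _ _ h0)
  refine ⟨c, ?_⟩
  have h1 : xo i j l a (p - c • v0) = 0 := by rw [map_sub, map_smul, hc, sub_self]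
  generalize p - c • v0 = v at hv h1
  refine h.fix_of h2 ha hv h1 (h.nd _ (h.xo_mem _ hv.1) fun w hw => ?_)
  have y1 := h.xo_eig hb hv
  rw [a4] at y1
  have y2 : ∀ u, B (xo i j l (a * a) v) (e u) = a * a * B (xo i j l (a * a) v) u := fun u => by
    have h3 := h.be (xo i j l (a * a) v) u
    rw [y1, map_smul, LinearMap.smul_apply, smul_eq_mul] at h3
    linear_combination a * a * h3 - B (xo i j l (a * a) v) (e u) * a3
  have w1 : w + a • e w + (a * a) • e (e w) ∈ W :=
    W.add_mem (W.add_mem hw (W.smul_mem _ (h.se w hw))) (W.smul_mem _ (h.se _ (h.se w hw)))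
  have w2 : e (w + a • e w + (a * a) • e (e w)) = (a * a) • (w + a • e w + (a * a) • e (e w)) := by
    simp only [map_add, map_smul, smul_add, smul_smul]
    rw [h.e3 w hw, a3, a4, one_smul]
    abel
  obtain ⟨d, hd'⟩ := eig_dim h2 h.nd h.be hb hd (h.xo_mem a h0.1) w1 (h.xo_eig ha h0) w2 hx
  have y3 := congrArg (B (xo i j l (a * a) v)) hd'
  rw [map_smul, h.adj (a * a) v (xo i j l a v0), ← h.xo_comm a (a * a) ht, ← h.adj, h1, map_zero, LinearMap.zero_apply,
    smul_zero] at y3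
  simp only [map_add, map_smul, smul_eq_mul] at y3
  rw [y2 (e w), y2 w] at y3
  linear_combination y3 - B (xo i j l (a * a) v) w * (a3 + (a * a * a + 1) * a3 + h2)

/-- **the lemma on `SL₂(3)`** -/
theorem q8 (h2 : (2 : k) = 0) {a : k} (ha : a ^ 2 + a + 1 = 0) (hd : finrank k W ≤ finrank k ↥(W ⊓ fx e) + 2) {p q : V}
    (hp : p ∈ W ⊓ fx e) (hq : q ∈ W ⊓ fx e) (ht : t (p + q) = p + q) :
    i (p + q) = p + q ∨ ∃ c : k, i (p - c • (p + q)) = p - c • (p + q) := by
  have a3 : a * a * a = 1 := by linear_combination (a - 1) * ha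
  have a4 : a * a * (a * a) = a := by linear_combination a * a3
  have hb : (a * a) ^ 2 + a * a + 1 = 0 := by linear_combination ha + a * a3
  have h0 := Submodule.add_mem _ hp hq
  by_cases x1 : xo i j l a (p + q) = 0
  · by_cases x2 : xo i j l (a * a) (p + q) = 0
    · exact Or.inl (h.fix_of h2 ha h0 x1 x2)
    · exact Or.inr (h.key h2 hb hd h0 hp ht x2)
  · exact Or.inr (h.key h2 ha hd h0 hp ht x1)

end Quat

end Cfsg.Agent.E82.U4
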