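import Cfsg.Agent.E82.U4.A2

/-!
# S3369, row `U₄(2)`: the monomial frame (helper39)

If `ρ` and `τ` act trivially on the last `sl₂` and `τ` on the third one, then `τ` acts trivially on the fixed space of `3¹⁺²`,
and `ρ` on the factor `A₂`.
-/

set_option autoImplicit false
set_option linter.unusedSectionVars false
set_option maxRecDepth 100000

namespace Cfsg.Agent.E82.U4

open Module Cfsg Cfsg.Lie Cfsg.Lie.ChevalleyDatum
open Cfsg.Agent.H180.U42 (GG one)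
open Cfsg.Agent.ChevalleyStructure.SL2Hom (up lo mem_closure_SL2)
open Cfsg.Agent.ChevalleyStructure.CoxeterGeomTypes
open Cfsg.Agent.Tits.Roots Cfsg.Agent.Nodes.RGDChev Cfsg.Agent.Nodes.BNOf
open Cfsg.Agent.BpExc.RowsUntw (e8T)
open Cfsg.Agent.KFacts.RgdChevCoord (TT)
open Cfsg.Agent.H129.TorusChar (cX isMC_cX)
open Cfsg.Agent.H897.T5Frame (rc)
open Cfsg.Agent.H897.T5UntwRow (A8)
open Cfsg.Agent.H939.L64 (KK E2 LK aK brK)
open Cfsg.Agent.H413.L16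
open Cfsg.Agent.H876.L64 (two_zero aK_mul aK_one aK_add aK_smul aK_zero aK_brK aK_inv aK_inv')
open Cfsg.Agent.H259.L34 (dz)
open Cfsg.Agent.H201.L34 (gw good_gw)
open Cfsg.Agent.H942.L16 (BF BF_aK BF_symm)
open Cfsg.Agent.E82.Fr

variable {ζ : KK}

/-- the first frame -/
def Fr1 (φ : GG →* GK) (ζ : KK) : Prop := ∀ i : Fin 3, Tv (φ (W [i])) (vc (cC i)) ζ

/-- normal form -/
def NF (g : GK) (l : List ℕ) : Prop := ∃ m ∈ KB LB, ∃ s ∈ TT chevE8 KK, g = gw l * m * s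

/-- the word of `τ` -/
def lt : List ℕ := [127, 124]

/-- the word of `ρ` -/
def lr : List ℕ := [127, 124, 169, 165]

/-- the word of the third transposition -/
def ls : List ℕ := [140, 146]

theorem ok_l : okL lt = true ∧ okL lr = true ∧ okL ls = true := by
  obtain ⟨k1, k2, k3, k4, k5, k6, -⟩ := okN_m
  simp [okL, lt, lr, ls, k1, k2, k3, k4, k5, k6]

theorem Fr1.nft (hζ : IsPrimitiveRoot ζ 3) {φ : GG →* GK} (h : Fr1 φ ζ) : NF (φ (W [3])) lt :=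
  norm1F hζ h (tv_cj hζ h (mS 0) (mS_spec 0)) ok_l.1 (by decide +kernel)

theorem Fr1.nfs (hζ : IsPrimitiveRoot ζ 3) {φ : GG →* GK} (h : Fr1 φ ζ) : NF (φ (W [5])) ls :=
  norm1F hζ h (tv_cj hζ h (mS 2) (mS_spec 2)) ok_l.2.2 (by decide +kernel)

theorem Fr1.nfr (hζ : IsPrimitiveRoot ζ 3) {φ : GG →* GK} (h : Fr1 φ ζ) : NF (φ (W wr)) lr :=
  norm1F hζ h (tv_cj hζ h ![[2, 2], [0], [1, 1]] (by decide +kernel)) ok_l.2.1 (by decide +kernel)

theorem Fr1.tz (hζ : IsPrimitiveRoot ζ 3) {φ : GG →* GK} (h : Fr1 φ ζ) : Tv (φ (W wz)) (vc 2216) ζ := by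
  have h1 := tv_word hζ h [0, 1, 2, 2]
  rwa [show (([0, 1, 2, 2] : List (Fin 3)).map fun i => vc (cC i)).sum = vc 2216 by decide +kernel] at h1

theorem Fr1.td (hζ : IsPrimitiveRoot ζ 3) {φ : GG →* GK} (h : Fr1 φ ζ) : Tv (φ (W wd)) (vc 244) ζ := by
  have h1 := tv_word hζ h [0, 0, 1]
  rwa [show (([0, 0, 1] : List (Fin 3)).map fun i => vc (cC i)).sum = vc 244 by decide +kernel] at h1

theorem Fr1.te (hζ : IsPrimitiveRoot ζ 3) {φ : GG →* GK} (h : Fr1 φ ζ) : Tv (φ (W we)) (vc 2188) ζ := by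
  have h1 := tv_word hζ h [1, 1, 2]
  rwa [show (([1, 1, 2] : List (Fin 3)).map fun i => vc (cC i)).sum = vc 2188 by decide +kernel] at h1

/-! ### conjugation of the groups `SL₂` -/

/-- conjugation of the groups `SL₂` -/
def Cj (g : GK) (j k : Fin 4) (X : S2) : Prop := ∀ Y, g * Ph j Y * g⁻¹ = Ph k (X * Y * X⁻¹)

theorem Cj.mul {g g' : GK} {i j k : Fin 4} {X X' : S2} (h : Cj g j k X) (h' : Cj g' i j X') : Cj (g * g') i k (X * X') :=
  fun Y => by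
    calc g * g' * Ph i Y * (g * g')⁻¹ = g * (g' * Ph i Y * g'⁻¹) * g⁻¹ := by group
      _ = Ph k (X * (X' * Y * X'⁻¹) * X⁻¹) := by rw [h', h]
      _ = _ := congrArg (Ph k) (by group)

theorem Cj.inv {g : GK} {j k : Fin 4} {X : S2} (h : Cj g j k X) : Cj g⁻¹ k j X⁻¹ := fun Y => by
  have h1 := h (X⁻¹ * Y * X⁻¹⁻¹)
  rw [show X * (X⁻¹ * Y * X⁻¹⁻¹) * X⁻¹ = Y by group] at h1
  rw [← h1]
  group

theorem Cj.unique {g : GK} {j k : Fin 4} {X : S2} (h : Cj g j k X) (h' : Cj g j k 1) : X = 1 :=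
  S2_center fun Y => by
    have h1 := (h Y).symm.trans (h' Y)
    rw [one_mul, inv_one, mul_one] at h1
    have h2 := Ph_ker k (A := X * Y * X⁻¹ * Y⁻¹) (by rw [map_mul, h1, map_inv, mul_inv_cancel])
    rw [mul_inv_eq_one, mul_inv_eq_iff_eq_mul] at h2
    exact h2

theorem cj_psi (B : Fin 4 → S2) (j : Fin 4) : Cj (Psi B) j j (B j) := Psi_conj B j

theorem cj_form {l : List ℕ} (hl : okL l = true) {j k : Fin 4}
    (h : (l.map fun r => vec chevE8 8 r).foldr (rc A8) (sr (pj j)) = sr (pj k)) (B : Fin 4 → S2) {s : GK} (hs : s ∈ Zt) :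
    Cj (gw l * (Psi B * s)) j k (B j) := by
  obtain ⟨w, h1, h2⟩ := good_gw l fun r hr => (okL_spec hl r hr).1
  have h3 : Cj (gw l) j k 1 := fun Y => by rw [one_mul, inv_one, mul_one, h1.conj_Ph ((h2 _).trans h)]
  have h4 : Cj s j j 1 := fun Y => by rw [one_mul, inv_one, mul_one, Zt_Ph hs, mul_inv_cancel_right]
  have h5 := h3.mul ((cj_psi B j).mul h4)
  rwa [one_mul, mul_one] at h5

theorem conj_xr {g : GK} {r : ℕ} (hr : r < 240) (h : aK g (er r) = er r) (c : KK) : g * xr r c * g⁻¹ = xr r c := by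
  rw [mul_inv_eq_iff_eq_mul]
  refine eq_of_er fun s _ => ?_
  rw [aK_mul, aK_mul, aK_xr' hr, aK_xr' hr, aK_add, aK_add, aK_smul, aK_smul, aK_brK, ← BF_aK g (er r), h]

theorem Ph_up' (j : Fin 4) (a : KK) : Ph j (up a) = xr (ipj j) a := by rw [Ph_up, xr, vec_ipj]

theorem Ph_lo' (j : Fin 4) (a : KK) : Ph j (lo a) = xr (239 - ipj j) a := by rw [Ph_lo, xr, vec_neg8 (ipj_lt j), vec_ipj]

theorem cj_fix {g : GK} {j : Fin 4} (h : ∀ v ∈ Dr (ipj j), aK g v = v) : Cj g j j 1 := fun Y => by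
  have h1 : (MulAut.conj g).toMonoidHom.comp (Ph j) = Ph j := by
    refine Cfsg.Agent.H897.T5Root.hom_ext (fun a => ?_) (fun a => ?_)
    · show g * Ph j (up a) * g⁻¹ = _
      rw [Ph_up', conj_xr (ipj_lt j) (h _ (er_Dr _))]
    · show g * Ph j (lo a) * g⁻¹ = _
      rw [Ph_lo', conj_xr (by omega) (h _ (en_Dr _))]
  rw [one_mul, inv_one, mul_one]
  exact DFunLike.congr_fun h1 Y

theorem mono_of {g : GK} {l : List ℕ} (hl : okL l = true) (h : NF g l) (σ : Fin 4 → Fin 4)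
    (hσ : ∀ j, (l.map fun r => vec chevE8 8 r).foldr (rc A8) (sr (pj j)) = sr (pj (σ j))) (hc : ∀ j, Cj g j (σ j) 1) :
    ∃ s ∈ TT chevE8 KK, g = gw l * s := by
  obtain ⟨m, hm, s, hs, e⟩ := h
  obtain ⟨B, z, hz, e1⟩ := Psi_form hm hs
  rw [mul_assoc, e1] at e
  have h1 : B = 1 := funext fun j => (cj_form hl (hσ j) B hz).unique (e ▸ hc j)
  exact ⟨z, hz.1, by rw [e, h1, map_one, one_mul]⟩

theorem Ph_fix (j : Fin 4) (hj : ∀ i, Ort (ipj j) (rt i i) ∧ Ort (239 - ipj j) (rt i i)) (A : S2) (p q : Fin 3) :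
    aK (Ph j A) (bs p q) = bs p q := by
  obtain ⟨k, hk⟩ := bs_Dr p q
  induction mem_closure_SL2 A using Subgroup.closure_induction with
  | mem x hx =>
    rcases hx with ⟨a, rfl⟩ | ⟨a, rfl⟩
    · rw [Ph_up']; exact (hj k).1.fix a hk
    · rw [Ph_lo']; exact (hj k).2.fix a hk
  | one => rw [map_one, aK_one]
  | mul a b _ _ h1 h2 => rw [map_mul, aK_mul, h2, h1]
  | inv a _ h1 =>
    conv_lhs => rw [← h1, map_inv, aK_inv']

/-! ### the monomial case -/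

theorem mono_er {l : List ℕ} (hl : okL l = true) {s : GK} (hs : s ∈ TT chevE8 KK) {r : ℕ} (hr : r < 240) :
    ∃ c : KK, c ≠ 0 ∧ aK (gw l * s) (er r) = c • er (l.foldr rf r) :=
  ⟨_, (isMC_cX e8T hs).ne_zero _, by rw [aK_mul, aK_tor_er hs hr, aK_smul, gw_er hl hr]⟩

theorem er_ne {r : ℕ} (hr : r < 240) : er r ≠ 0 := fun h => by
  have h1 := Cfsg.Agent.H942.L16.BF_er_er hr (show 239 - r < 240 by omega)
  rw [h, map_zero, LinearMap.zero_apply, if_pos rfl] at h1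
  exact zero_ne_one h1

theorem sq_one {c : KK} {r : ℕ} (hr : r < 240) (h : c • c • er r = er r) : c = 1 := by
  have h1 : (c ^ 2 - 1 ^ 2) • er r = 0 := by rw [sub_smul, one_pow, one_smul, pow_two, mul_smul, h, sub_self]
  exact sq_inj (sub_eq_zero.1 ((smul_eq_zero.1 h1).resolve_right (er_ne hr)))

theorem orb_spec : (∀ r < 240, dz (vc 2216) (vec chevE8 8 r) = 0 → dz (vc 244) (vec chevE8 8 r) = 0 →
    lt.foldr rf r = r ∨ lt.foldr rf (lr.foldr rf r) = lr.foldr rf r ∨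
      lt.foldr rf (lr.foldr rf (lr.foldr rf r)) = lr.foldr rf (lr.foldr rf r)) ∧
    (∀ j : Fin 4, ∀ r ∈ [ipj j, gam j], r < 240 ∧ (lt.foldr rf r = r ∨ lt.foldr rf (lr.foldr rf r) = lr.foldr rf r ∨
      lt.foldr rf (lr.foldr rf (lr.foldr rf r)) = lr.foldr rf (lr.foldr rf r))) ∧
    ∀ p q, lt.foldr rf (rt p q) = rt p q ∧ lr.foldr rf (rt p q) = rt p q := by decide +kernel

theorem mono_main (hζ : IsPrimitiveRoot ζ 3) {φ : GG →* GK} (h : Fr1 φ ζ) {s t : GK} (hs : s ∈ TT chevE8 KK)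
    (ht : t ∈ TT chevE8 KK) (e1 : φ (W [3]) = gw lt * s) (e2 : φ (W wr) = gw lr * t) :
    (∀ v ∈ FW (aH.comp φ) [wr, wd, wz], R (aH.comp φ) [3] v = v) ∧ ∀ p q, aK (φ (W wr)) (bs p q) = bs p q := by
  have hR : ∀ l v, R (aH.comp φ) l v = aK (φ (W l)) v := fun _ _ => rfl
  have hB : ∀ l u v, BF (R (aH.comp φ) l u) (R (aH.comp φ) l v) = BF u v := fun _ _ _ => BF_aK _ _ _
  have tt : ∀ v, R (aH.comp φ) [3] (R (aH.comp φ) [3] v) = v := fun v => by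
    rw [R_eq2 (c := []) (by decide +kernel), R_nil]
  have f1 : ∀ r < 240, lt.foldr rf r = r → R (aH.comp φ) [3] (er r) = er r := fun r hr k => by
    obtain ⟨c, -, hc⟩ := mono_er ok_l.1 hs hr
    rw [← e1, k, ← hR] at hc
    have k1 := tt (er r)
    rw [hc, map_smul, hc] at k1
    rw [hc, sq_one hr k1, one_smul]
  refine ⟨fun v hv => ?_, fun p q => ?_⟩
  · have hv' : R (aH.comp φ) [3] v ∈ FW (aH.comp φ) [wr, wd, wz] := mp_spec (by decide +kernel) hv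
    have a1 : ∀ w ∈ FW (aH.comp φ) [wr, wd, wz], ∀ u, BF w (R (aH.comp φ) wr u) = BF w u := fun w hw u => by
      conv_lhs => rw [← hw wr List.mem_cons_self, hB]
    have a2 : ∀ u, R (aH.comp φ) [3] u = u → BF (R (aH.comp φ) [3] v - v) u = 0 := fun u hu => by
      rw [map_sub, LinearMap.sub_apply]
      conv_lhs => rw [← hu, hB, hu, sub_self]
    have hw := Submodule.sub_mem _ hv' hv
    rw [← sub_eq_zero]
    generalize R (aH.comp φ) [3] v - v = w at a2 hw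
    have a3 : ∀ r < 240, BF w (er (lr.foldr rf r)) = 0 → BF w (er r) = 0 := fun r hr k => by
      obtain ⟨c, -, hc⟩ := mono_er ok_l.2.1 ht hr
      rw [← a1 w hw, hR, e2, hc, map_smul, k, smul_zero]
    have a4 : ∀ r < 240, BF w (hr (lr.foldr rf r)) = 0 → BF w (hr r) = 0 := fun r hr' k => by
      rw [← a1 w hw, hR, e2, aK_mul, aK_t_hr ht, gw_hr ok_l.2.1 hr', k]
    have a5 : ∀ r < 240, lt.foldr rf r = r → BF w (hr r) = 0 := fun r hr' k => a2 _ (by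
      rw [hR, e1, aK_mul, aK_t_hr hs, gw_hr ok_l.1 hr', k])
    have a6 : ∀ j : Fin 4, ∀ r ∈ [ipj j, gam j], BF w (hr r) = 0 := fun j r hr' => by
      obtain ⟨b0, b1 | b1 | b1⟩ := orb_spec.2.1 j r hr'
      · exact a5 r b0 b1
      · exact a4 r b0 (a5 _ (gw_lt ok_l.2.1 b0) b1)
      · exact a4 r b0 (a4 _ (gw_lt ok_l.2.1 b0) (a5 _ (gw_lt ok_l.2.1 (gw_lt ok_l.2.1 b0)) b1))
    refine eq_zero_of (fun r b0 => ?_) (fun j => a6 j _ (by simp)) fun j => a6 j _ (by simp)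
    by_cases k1 : dz (vc 2216) (vec chevE8 8 r) = 0
    · by_cases k2 : dz (vc 244) (vec chevE8 8 r) = 0
      · rcases orb_spec.1 r b0 k1 k2 with b1 | b1 | b1
        · exact a2 _ (f1 r b0 b1)
        · exact a3 r b0 (a2 _ (f1 _ (gw_lt ok_l.2.1 b0) b1))
        · exact a3 r b0 (a3 _ (gw_lt ok_l.2.1 b0) (a2 _ (f1 _ (gw_lt ok_l.2.1 (gw_lt ok_l.2.1 b0)) b1)))
      · exact (h.td hζ).orth hζ (hw wd (by simp)) b0 k2
    · exact (h.tz hζ).orth hζ (hw wz (by simp)) b0 k1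
  · obtain ⟨b1, b2⟩ := orb_spec.2.2 p q
    by_cases k : p = q
    · rw [← k, bs_self, e2, aK_mul, aK_t_hr ht, gw_hr ok_l.2.1 (rt_lt p p), (orb_spec.2.2 p p).2]
    · obtain ⟨c, -, hc⟩ := mono_er ok_l.2.1 ht (rt_lt p q)
      rw [← e2, b2, ← hR] at hc
      have k0 := f1 _ (rt_lt p q) b1
      have k1 : R (aH.comp φ) ([3] ++ (wr ++ ([3] ++ wr))) (er (rt p q)) = er (rt p q) := by
        rw [R_eq (b := []) (by decide +kernel), R_nil]
      rw [R_app, R_app, R_app, hc, map_smul, map_smul, map_smul, k0, hc, map_smul, k0] at k1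
      rw [bs_of_ne k, ← hR, hc, sq_one (rt_lt p q) k1, one_smul]

theorem Fr1.zt {φ : GG →* GK} (h : Fr1 φ ζ) (hζ : IsPrimitiveRoot ζ 3) (i : Fin 3) : φ (W [i]) ∈ Zt :=
  ⟨(h i).1, fun j => by rw [← vec_ipj, cX_dz hζ (h i).1 (h i).2, (cC_ipj i j).1, ZMod.val_zero, pow_zero]⟩

/-- **the monomial frame** -/
theorem g4 (hζ : IsPrimitiveRoot ζ 3) {φ : GG →* GK} (h : Fr1 φ ζ) (r3 : ∀ v ∈ Dr (ipj 3), aK (φ (W wr)) v = v)
    (t3 : ∀ v ∈ Dr (ipj 3), aK (φ (W [3])) v = v) (t2 : ∀ v ∈ Dr (ipj 2), aK (φ (W [3])) v = v) :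
    (∀ v ∈ FW (aH.comp φ) [wr, wd, wz], R (aH.comp φ) [3] v = v) ∧ ∀ p q, aK (φ (W wr)) (bs p q) = bs p q := by
  obtain ⟨m, hm, s, hs, e⟩ := h.nfr hζ
  obtain ⟨B, z, hz, e1⟩ := Psi_form hm hs
  rw [mul_assoc, e1] at e
  have c2 : Cj (φ (W wr)) 2 0 (B 2) := e ▸ cj_form ok_l.2.1 (by decide +kernel) B hz
  have c0 : Cj (φ (W wr)) 0 1 (B 0) := e ▸ cj_form ok_l.2.1 (by decide +kernel) B hz
  obtain ⟨M, hM⟩ : ∃ M : Fin 4 → S2, M = ![B 2, B 0 * B 2, 1, 1] := ⟨_, rfl⟩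
  have M0 : M 0 = B 2 := by rw [hM]; rfl
  have M1 : M 1 = B 0 * B 2 := by rw [hM]; rfl
  have M2 : M 2 = 1 := by rw [hM]; rfl
  have M3 : M 3 = 1 := by rw [hM]; rfl
  obtain ⟨ψ, hψ⟩ : ∃ ψ : GG →* GK, ∀ g, ψ g = (Psi M)⁻¹ * (φ g * Psi M) :=
    ⟨(MulAut.conj (Psi M)⁻¹).toMonoidHom.comp φ, fun g => by
      show (Psi M)⁻¹ * φ g * (Psi M)⁻¹⁻¹ = _
      rw [inv_inv, mul_assoc]⟩
  have h' : Fr1 ψ ζ := fun i => by
    rw [hψ, Zt_Psi (h.zt hζ i), inv_mul_cancel_left]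
    exact h i
  have key : ∀ (g : GG) (j k : Fin 4) (X : S2), Cj (φ g) j k X → (M k)⁻¹ * (X * M j) = 1 → Cj (ψ g) j k 1 :=
    fun g j k X k1 k2 => by
      rw [hψ, ← k2]
      exact (cj_psi M k).inv.mul (k1.mul (cj_psi M j))
  have d2 := key _ _ _ _ c2 (by rw [M0, M2]; group)
  have d0 := key _ _ _ _ c0 (by rw [M0, M1]; group)
  have d3 := key _ _ _ _ (cj_fix r3) (by rw [M3]; group)
  have u2 := key _ _ _ _ (cj_fix t2) (by rw [M2]; group)
  have u3 := key _ _ _ _ (cj_fix t3) (by rw [M3]; group)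
  have w : ∀ a b : List ℕ, ψ (W a) * ψ (W b) = ψ (W (a ++ b)) := fun a b => by rw [W_append, map_mul]
  have d1 : Cj (ψ (W wr)) 1 2 1 := by
    have k := (d0.mul d2).inv
    rwa [w, ← map_inv, W_inv (b := wr) (by decide +kernel), one_mul, inv_one] at k
  have u0 : Cj (ψ (W [3])) 0 1 1 := by
    have k := (d0.mul d2).mul (u2.mul (d1.mul d0))
    rwa [w, w, w, W_eq (b := [3]) (by decide +kernel), one_mul, one_mul, one_mul] at k
  have u1 : Cj (ψ (W [3])) 1 0 1 := by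
    have k := d2.mul (u2.mul d1)
    rwa [w, w, W_eq (b := [3]) (by decide +kernel), one_mul, one_mul] at k
  obtain ⟨s1, hs1, e1⟩ := mono_of ok_l.1 (h'.nft hζ) ![1, 0, 2, 3] (by decide +kernel) fun j => by
    fin_cases j
    exacts [u0, u1, u2, u3]
  obtain ⟨s2, hs2, e2⟩ := mono_of ok_l.2.1 (h'.nfr hζ) ![1, 2, 0, 3] (by decide +kernel) fun j => by
    fin_cases j
    exacts [d0, d1, d2, d3]
  obtain ⟨k1, k2⟩ := mono_main hζ h' hs1 hs2 e1 e2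
  have hR : ∀ l v, aK (Psi M) (R (aH.comp ψ) l (aK (Psi M)⁻¹ v)) = R (aH.comp φ) l v := fun l v => by
    show aK _ (aK (ψ (W l)) _) = aK (φ (W l)) v
    rw [hψ, aK_mul, aK_mul, aK_inv, aK_inv]
  refine ⟨fun v hv => ?_, fun p q => ?_⟩
  · rw [← hR, k1 _ fun w hw => ?_, aK_inv]
    rw [← aK_inv' (Psi M) (R _ w _), hR, hv w hw]
  · have k3 : aK (Psi M) (bs p q) = bs p q := by
      rw [Psi_apply, M2, M3, map_one, map_one, mul_one, mul_one, aK_mul, Ph_fix 1 (by decide +kernel),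
        Ph_fix 0 (by decide +kernel)]
    have k4 := k2 p q
    rw [hψ, aK_mul, aK_mul, k3] at k4
    rw [← aK_inv (Psi M) (aK _ _), k4, k3]

end Cfsg.Agent.E82.U4
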