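import Cfsg.Agent.E82.U4.Mono

/-!
# S3369, row `U₄(2)`: the case `(80, 92)`, the action of `ρ` and `τ` on the last `sl₂` (helper39)
-/

set_option autoImplicit false
set_option linter.unusedSectionVars false
set_option maxRecDepth 100000

namespace Cfsg.Agent.E82.U4

open Module Cfsg Cfsg.Lie Cfsg.Lie.ChevalleyDatum
open Cfsg.Agent.H180.U42 (GG one)
open Cfsg.Agent.Tits.Roots Cfsg.Agent.Nodes.RGDChev
open Cfsg.Agent.KFacts.RgdChevCoord (TT)
open Cfsg.Agent.H939.L64 (KK E2 LK aK brK)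
open Cfsg.Agent.H413.L16
open Cfsg.Agent.H876.L64 (two_zero aK_mul aK_one aK_add aK_smul aK_zero)
open Cfsg.Agent.H259.L34 (dz)
open Cfsg.Agent.H201.L34 (gw)
open Cfsg.Agent.H942.L16 (BF BF_aK BF_symm BF_er_er BF_hr_hr ipr kadd_self ladd_self)
open Cfsg.Agent.E82.Fr

section lin

variable {k V : Type*} [Field k] [AddCommGroup V] [Module k V] [Module.Finite k V] (B : V →ₗ[k] V →ₗ[k] k)

/-- the orthogonal space -/
def perp (Y : Submodule k V) : Submodule k V := LinearMap.ker (B.compl₂ Y.subtype)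

variable {B}

theorem mem_perp {Y : Submodule k V} {v : V} : v ∈ perp B Y ↔ ∀ y ∈ Y, B v y = 0 :=
  ⟨fun h y hy => LinearMap.congr_fun (LinearMap.mem_ker.1 h) ⟨y, hy⟩, fun h => LinearMap.ext fun y => h y y.2⟩

theorem dim_perp (U Y : Submodule k V) : finrank k U ≤ finrank k ↥(U ⊓ perp B Y) + finrank k Y := by
  have h1 := dim_map_add (B.compl₂ Y.subtype) U
  have h2 := Submodule.finrank_le (U.map (B.compl₂ Y.subtype))
  have h3 : finrank k (↥Y →ₗ[k] k) = finrank k Y := Subspace.dual_finrank_eq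
  unfold perp
  omega

theorem Nd.perp {W A : Submodule k V} (hW : Nd B W) (hA : Nd B A) (h : A ≤ W) : Nd B (W ⊓ perp B A) := by
  rintro w ⟨hw, hw'⟩ h1
  refine hW w hw fun v hv => ?_
  obtain ⟨a, ha, h2⟩ := exists_pr hA v
  have h3 := h1 (v - a) ⟨W.sub_mem hv (h ha), mem_perp.2 fun y hy => by rw [map_sub, LinearMap.sub_apply, h2 y hy, sub_self]⟩
  rwa [map_sub, mem_perp.1 hw' a ha, sub_zero] at h3

theorem dim_span {n : ℕ} (v : Fin n → V) : finrank k (Submodule.span k (Set.range v)) ≤ n := by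
  have h := finrank_range_le_card (R := k) v
  rwa [Fintype.card_fin] at h

theorem dim_dual {n : ℕ} (v w : Fin n → V) (h : ∀ i j, B (w i) (v j) = if i = j then 1 else 0) {U : Submodule k V}
    (hv : ∀ i, v i ∈ U) : n ≤ finrank k U := by
  have h1 : LinearIndependent k fun i => (⟨v i, hv i⟩ : U) := by
    refine LinearIndependent.of_comp U.subtype (Fintype.linearIndependent_iff.2 fun g hg i => ?_)
    have h2 := congrArg (B (w i)) hg
    rw [map_sum, map_zero, Finset.sum_eq_single i] at h2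
    · rwa [map_smul, Function.comp_apply, Submodule.subtype_apply, h, if_pos rfl, smul_eq_mul, mul_one] at h2
    · intro b _ hb
      rw [map_smul, Function.comp_apply, Submodule.subtype_apply, h, if_neg hb.symm, smul_zero]
    · intro e; exact absurd (Finset.mem_univ i) e
  have h3 := h1.fintype_card_le_finrank
  rwa [Fintype.card_fin] at h3

theorem Tet.sub {W U : Submodule k V} {e i j l : End k V} (h : Tet B W e i j l) (hU : U ≤ W) (hn : Nd B U)
    (se : ∀ v ∈ U, e v ∈ U) (si : ∀ v ∈ U, i v ∈ U) (sj : ∀ v ∈ U, j v ∈ U) (sl : ∀ v ∈ U, l v ∈ U) : Tet B U e i j l :=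
  ⟨hn, h.sym, se, si, sj, sl, h.be, h.bi, h.bj, h.bl, fun v hv => h.e3 v (hU hv), fun v hv => h.ei v (hU hv),
    fun v hv => h.ej v (hU hv), fun v hv => h.el v (hU hv)⟩

end lin

/-! ### the four `sl₂` -/

theorem ipj_spec : ∀ i j : Fin 4, (i ≠ j → ipj i ≠ ipj j ∧ ipj i ≠ 239 - ipj j ∧ ipr (ipj i) (ipj j) % 2 = 0 ∧
    ipr (gam i) (ipj j) % 2 = 0) ∧ ipr (gam i) (ipj i) % 2 ≠ 0 ∧ ipr (ipj i) (ipj i) % 2 = 0 ∧ ipj i ≠ 239 - ipj i := by
  decide +kernel

theorem D_orth {i j : Fin 4} (h : i ≠ j) {u v : LK} (hu : u ∈ Dr (ipj i)) (hv' : v ∈ Dr (ipj j)) : BF u v = 0 := by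
  obtain ⟨h1, h2, h3, -⟩ := (ipj_spec i j).1 h
  exact BF_Dr_Dr (ipj_lt i) (ipj_lt j) h1 h2 h3 hu hv'

theorem D_gam {i j : Fin 4} (h : i ≠ j) {v : LK} (hv' : v ∈ Dr (ipj j)) : BF (hr (gam i)) v = 0 :=
  BF_hv_Dr (ipj_lt j) ((BF_hr_hr _ _).trans (cast_even ((ipj_spec i j).1 h).2.2.2)) hv'

theorem D_hr (i : Fin 4) {j : Fin 4} {v : LK} (hv' : v ∈ Dr (ipj j)) : BF (hr (ipj i)) v = 0 := by
  by_cases h : i = j
  · exact BF_hv_Dr (ipj_lt j) ((BF_hr_hr _ _).trans (cast_even (by rw [h]; exact (ipj_spec j j).2.2.1))) hv'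
  · exact D_orth h (hr_Dr _) hv'

/-- the component in `Dr (ipj j)` -/
noncomputable def pD (j : Fin 4) : LK →ₗ[KK] LK :=
  (BF (er (239 - ipj j))).smulRight (er (ipj j)) + (BF (er (ipj j))).smulRight (er (239 - ipj j)) +
    (BF (hr (gam j))).smulRight (hr (ipj j))

theorem pD_apply (j : Fin 4) (v : LK) : pD j v = BF (er (239 - ipj j)) v • er (ipj j) + BF (er (ipj j)) v • er (239 - ipj j) +
    BF (hr (gam j)) v • hr (ipj j) := rfl

theorem pD_mem (j : Fin 4) (v : LK) : pD j v ∈ Dr (ipj j) := ⟨_, _, _, pD_apply j v⟩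

theorem pD_ne {i j : Fin 4} (h : i ≠ j) {v : LK} (hv' : v ∈ Dr (ipj j)) : pD i v = 0 := by
  rw [pD_apply, D_orth h (en_Dr _) hv', D_orth h (er_Dr _) hv', D_gam h hv', zero_smul, zero_smul, zero_smul, add_zero, add_zero]

theorem BF_D (j : Fin 4) (x y w : KK) :
    BF (er (239 - ipj j)) (x • er (ipj j) + y • er (239 - ipj j) + w • hr (ipj j)) = x ∧
      BF (er (ipj j)) (x • er (ipj j) + y • er (239 - ipj j) + w • hr (ipj j)) = y ∧
      BF (hr (gam j)) (x • er (ipj j) + y • er (239 - ipj j) + w • hr (ipj j)) = w := by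
  have h1 := ipj_lt j
  have h2 : 239 - ipj j < 240 := by omega
  simp only [map_add, map_smul, smul_eq_mul]
  rw [BF_self, BF_self, BF_er_er h2 h1, BF_er_er h1 h2, if_pos rfl, if_pos (by omega), BF_er_hr _ h1, BF_er_hr _ h2,
    BF_hr_er _ h1, BF_hr_er _ h2, BF_hr_hr, cast_odd (ipj_spec j j).2.1]
  exact ⟨by ring, by ring, by ring⟩

theorem pD_self {j : Fin 4} {v : LK} (hv' : v ∈ Dr (ipj j)) : pD j v = v := by
  obtain ⟨x, y, w, rfl⟩ := hv'
  obtain ⟨h1, h2, h3⟩ := BF_D j x y w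
  rw [pD_apply, h1, h2, h3]

theorem dim_Dr (b : ℕ) : finrank KK (Dr b) ≤ 3 := by
  refine (Submodule.finrank_mono ?_).trans (dim_span ![er b, er (239 - b), hr b])
  rintro _ ⟨x, y, w, rfl⟩
  exact Submodule.add_mem _ (Submodule.add_mem _ (Submodule.smul_mem _ _ (Submodule.subset_span ⟨0, rfl⟩))
    (Submodule.smul_mem _ _ (Submodule.subset_span ⟨1, rfl⟩))) (Submodule.smul_mem _ _ (Submodule.subset_span ⟨2, rfl⟩))

/-- root elements of `sl₂` -/
def Nil (b : ℕ) (v : LK) : Prop := ∃ x y w : KK, v = x • er b + y • er (239 - b) + w • hr b ∧ x * y = w ^ 2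

theorem Nil.neg {b : ℕ} (hb : b < 240) {v : LK} (h : Nil b v) : Nil (239 - b) v := by
  obtain ⟨x, y, w, rfl, h⟩ := h
  exact ⟨y, x, w, by rw [show 239 - (239 - b) = b by omega, hr_neg hb, add_comm (x • _)], by rw [mul_comm, h]⟩

theorem Nil.xr {b : ℕ} (hb : b < 240) (a : KK) {v : LK} (h : Nil b v) : Nil b (aK (xr b a) v) := by
  obtain ⟨x, y, w, rfl, h⟩ := h
  refine ⟨x + y * a ^ 2, y, w + y * a, ?_, by linear_combination h - w * y * a * two_zero⟩
  rw [aK_add, aK_add, aK_smul, aK_smul, aK_smul, aK_xr_self hb, aK_xr_neg hb, aK_xr_hr hb]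
  module

theorem nil_nf {g : GK} {l : List ℕ} (hl : okL l = true) (h : NF g l) {b : ℕ} (hb : InL LB b) (e : l.foldr rf b = b) :
    Nil b (aK g (er b)) := by
  obtain ⟨m, hm, s, hs, rfl⟩ := h
  have h1 : ∀ v, Nil b v → Nil b (aK m v) := KB_ind (fun r hr => (hb.2 r hr).1) (P := fun m => ∀ v, Nil b v → Nil b (aK m v))
    (fun v hv' => by rwa [aK_one]) (fun r hr' a g hg v hv' => by
      have h2 := hg v hv'
      rw [aK_mul]
      rcases (hb.2 r hr').2 with h3 | h3 | h3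
      · rw [h3]; exact h2.xr hb.1 a
      · have h4 := ((h2.neg hb.1).xr (by omega) a).neg (by omega)
        rwa [show 239 - (239 - b) = b by have := hb.1; omega, ← h3] at h4
      · obtain ⟨x, y, w, h4, h5⟩ := h2
        rw [h3.fix a ⟨x, y, w, h4⟩]
        exact ⟨x, y, w, h4, h5⟩) hm
  obtain ⟨x, y, w, h2, h3⟩ := h1 (aK s (er b)) ⟨Cfsg.Agent.H129.TorusChar.cX Cfsg.Agent.BpExc.RowsUntw.e8T s (vec chevE8 8 b), 0, 0,
    by rw [aK_tor_er hs hb.1, zero_smul, zero_smul, add_zero, add_zero], by ring⟩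
  refine ⟨x, y, w, ?_, h3⟩
  rw [aK_mul, aK_mul, h2, aK_add, aK_add, aK_smul, aK_smul, aK_smul, gw_er hl hb.1, gw_er hl (by omega), gw_hr hl hb.1,
    gw_neg hl hb.1, e]

theorem Nil.fix {g : GK} {b : ℕ} (hb : b < 240) (h : Nil b (aK g (er b))) (h2 : aK g (aK g (er b)) = er b)
    (h0 : BF (er b) (aK g (er b)) = 0) : aK g (er b) = er b := by
  obtain ⟨x, y, w, h1, h3⟩ := h
  have y0 : y = 0 := by
    rw [h1] at h0
    simp only [map_add, map_smul, smul_eq_mul] at h0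
    rw [BF_self, BF_er_er hb (by omega), if_pos rfl, BF_er_hr _ hb] at h0
    linear_combination h0
  have w0 : w = 0 := pow_eq_zero_iff two_ne_zero |>.1 (by rw [← h3, y0, mul_zero])
  rw [y0, w0, zero_smul, zero_smul, add_zero, add_zero] at h1
  rw [h1, aK_smul, h1] at h2
  rw [h1, sq_one hb h2, one_smul]

theorem NF.Dr {g : GK} {l : List ℕ} (hl : okL l = true) (h : NF g l) {i j : Fin 4} (e : l.foldr rf (ipj i) = ipj j) {v : LK}
    (hv' : v ∈ Dr (ipj i)) : aK g v ∈ Dr (ipj j) := by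
  obtain ⟨m, hm, s, hs, rfl⟩ := h
  exact e ▸ nm_Dr hl hm hs i hv'

theorem NF.hr {g : GK} {l : List ℕ} (hl : okL l = true) (h : NF g l) {i j : Fin 4} (e : l.foldr rf (ipj i) = ipj j) :
    aK g (hr (ipj i)) = hr (ipj j) := by
  obtain ⟨m, hm, s, hs, rfl⟩ := h
  exact e ▸ nm_hr hl hm hs i

theorem NF.gam {g : GK} {l : List ℕ} (hl : okL l = true) (h : NF g l) {i j : Fin 4} (e : l.foldr rf (ipj i) = ipj j)
    (e' : l.foldr rf (gam i) = gam j) : ∃ d ∈ Fr.Dr (ipj j), aK g (Cfsg.Agent.H413.L16.hr (gam i)) =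
      Cfsg.Agent.H413.L16.hr (gam j) + d := by
  obtain ⟨m, hm, s, hs, rfl⟩ := h
  exact e ▸ e' ▸ nm_gam hl hm hs i

variable {ζ : KK} {φ : GG →* GK} {π : GG →* E2}

theorem R_aH (l : List ℕ) (v : LK) : R (aH.comp φ) l v = aK (φ (W l)) v := rfl

theorem fixc {v : LK} (hv' : v ∈ FW (aH.comp φ) [we, wd, wz]) (i : Fin 3) : aK (φ (W [i])) v = v :=
  md_fix (ρ := aH.comp φ) (by revert i; decide +kernel) hv'

theorem Fr1.memE (hζ : IsPrimitiveRoot ζ 3) (h : Fr1 φ ζ) {j : Fin 4} {v : LK} (hv' : v ∈ Dr (ipj j)) :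
    v ∈ FW (aH.comp φ) [we, wd, wz] :=
  mp_le (us := [[0], [1], [2]]) (by decide +kernel) (by
    simp only [mem_FW, List.forall_mem_cons]
    exact ⟨fix_Dr hζ (h 0) j hv', fix_Dr hζ (h 1) j hv', fix_Dr hζ (h 2) j hv', fun _ k => absurd k List.not_mem_nil⟩)

theorem Fr1.zero (hζ : IsPrimitiveRoot ζ 3) (h : Fr1 φ ζ) {v : LK} (hv' : v ∈ FW (aH.comp φ) [we, wd, wz])
    (h1 : ∀ j, ∀ u ∈ Dr (ipj j), BF v u = 0) (h2 : ∀ j, BF v (hr (gam j)) = 0) : v = 0 := by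
  refine eq_zero_of (fun u hu => ?_) (fun j => h1 j _ (hr_Dr _)) h2
  by_cases k : ∀ j, dz (vc (cC j)) (vec chevE8 8 u) = 0
  · obtain ⟨j, rfl | rfl⟩ := LB_ipj u (LB_cC u hu k)
    · exact h1 j _ (er_Dr _)
    · exact h1 j _ (en_Dr _)
  · obtain ⟨j, hj⟩ := not_forall.1 k
    exact (h j).orth hζ (fixc hv' j) hu hj

/-- **`ρ` is trivial on the last `sl₂`** -/
theorem g1 (hζ : IsPrimitiveRoot ζ 3) (h : Fr1 φ ζ) (h8 : 8 ≤ df (aH.comp φ) [wr, we, wd, wz]) :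
    df (aH.comp φ) [wr, we, wd, wz] = 8 ∧ ∀ v ∈ Dr (ipj 3), aK (φ (W wr)) v = v := by
  have n := h.nfr hζ
  have c3 : φ (W wr) ^ 3 = 1 := by rw [← map_pow, W_cube (by decide +kernel), map_one]
  obtain ⟨Y, hY⟩ : ∃ Y, Y = Submodule.span KK (Set.range ![er (ipj 2), er (239 - ipj 2), hr (ipj 2), hr (gam 2), hr (gam 3)]) :=
    ⟨_, rfl⟩
  have h1 := dim_perp (B := BF) (FW (aH.comp φ) [wr, we, wd, wz]) (Y ⊔ Dr (ipj 3) ⊓ fx (R (aH.comp φ) wr))
  have h2 : FW (aH.comp φ) [wr, we, wd, wz] ⊓ perp BF (Y ⊔ Dr (ipj 3) ⊓ fx (R (aH.comp φ) wr)) = ⊥ := by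
    rw [eq_bot_iff]
    rintro v ⟨hv1, hv2⟩
    have a0 : aK (φ (W wr)) v = v := hv1 wr List.mem_cons_self
    have a1 : ∀ u, BF v (aK (φ (W wr)) u) = BF v u := fun u => by conv_lhs => rw [← a0, BF_aK]
    have a2 : ∀ i, BF v (![er (ipj 2), er (239 - ipj 2), hr (ipj 2), hr (gam 2), hr (gam 3)] i) = 0 := fun i =>
      mem_perp.1 hv2 _ (Submodule.mem_sup_left (hY ▸ Submodule.subset_span ⟨i, rfl⟩))
    have b2 : ∀ u ∈ Dr (ipj 2), BF v u = 0 := by
      rintro _ ⟨x, y, w, rfl⟩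
      rw [map_add, map_add, map_smul, map_smul, map_smul, show BF v (er (ipj 2)) = 0 from a2 0,
        show BF v (er (239 - ipj 2)) = 0 from a2 1, show BF v (hr (ipj 2)) = 0 from a2 2]
      simp only [smul_zero, add_zero]
    have b1 : ∀ u ∈ Dr (ipj 1), BF v u = 0 := fun u hu => by
      rw [← a1, b2 _ (n.Dr ok_l.2.1 (by decide +kernel) hu)]
    have b0 : ∀ u ∈ Dr (ipj 0), BF v u = 0 := fun u hu => by
      rw [← a1, b1 _ (n.Dr ok_l.2.1 (by decide +kernel) hu)]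
    have b3 : ∀ u ∈ Dr (ipj 3), BF v u = 0 := fun u hu => by
      have k1 := n.Dr (j := 3) ok_l.2.1 (by decide +kernel) hu
      have k2 := n.Dr (j := 3) ok_l.2.1 (by decide +kernel) k1
      have k3 := mem_perp.1 hv2 (pr3 (φ (W wr)) u) (Submodule.mem_sup_right
        ⟨Submodule.add_mem _ (Submodule.add_mem _ hu k1) k2, mem_fx.2 (pr3_fix c3 u)⟩)
      rwa [BF_symm, BF_pr3 u a0, BF_symm] at k3
    have g2 : BF v (hr (gam 2)) = 0 := a2 3
    have g1 : BF v (hr (gam 1)) = 0 := by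
      obtain ⟨d, hd, e⟩ := n.gam (i := 1) (j := 2) ok_l.2.1 (by decide +kernel) (by decide +kernel)
      rw [← a1, e, map_add, g2, b2 d hd, add_zero]
    have g0 : BF v (hr (gam 0)) = 0 := by
      obtain ⟨d, hd, e⟩ := n.gam (i := 0) (j := 1) ok_l.2.1 (by decide +kernel) (by decide +kernel)
      rw [← a1, e, map_add, g1, b1 d hd, add_zero]
    refine h.zero hζ (fun w hw => hv1 w (List.mem_cons_of_mem _ hw)) (fun j => ?_) fun j => ?_
    · fin_cases j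
      exacts [b0, b1, b2, b3]
    · fin_cases j
      exacts [g0, g1, g2, a2 4]
  have h3 := Submodule.finrank_add_le_finrank_add_finrank Y (Dr (ipj 3) ⊓ fx (R (aH.comp φ) wr))
  have h4 : finrank KK Y ≤ 5 := hY ▸ dim_span _
  have h5 := dim_Dr (ipj 3)
  have h6 := Submodule.finrank_mono (inf_le_left : Dr (ipj 3) ⊓ fx (R (aH.comp φ) wr) ≤ _)
  rw [h2, finrank_bot] at h1
  unfold df at h8 ⊢
  refine ⟨by omega, fun v hv' => ?_⟩
  have h7 := Submodule.eq_of_le_of_finrank_le (inf_le_left : Dr (ipj 3) ⊓ fx (R (aH.comp φ) wr) ≤ _) (by omega)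
  rw [← h7] at hv'
  exact mem_fx.1 hv'.2

theorem Fr1.dec (hζ : IsPrimitiveRoot ζ 3) (h : Fr1 φ ζ) {v : LK} (hv' : v ∈ FW (aH.comp φ) [we, wd, wz])
    (h1 : ∀ j, BF (hr (ipj j)) v = 0) : v = pD 0 v + pD 1 v + pD 2 v + pD 3 v := by
  have e : pD 0 v + pD 1 v + pD 2 v + pD 3 v = ∑ j, pD j v := (Fin.sum_univ_four fun j => pD j v).symm
  have k : ∀ j u, (∀ i, i ≠ j → BF u (pD i v) = 0) → BF u (pD j v) = BF u v → BF (v - ∑ j, pD j v) u = 0 := fun j u k1 k2 => by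
    rw [BF_symm, map_sub, map_sum, Finset.sum_eq_single j (fun i _ hi => k1 i hi) (fun k => absurd (Finset.mem_univ j) k), k2,
      sub_self]
  rw [e, ← sub_eq_zero]
  refine h.zero hζ (Submodule.sub_mem _ hv' (Submodule.sum_mem _ fun j _ => h.memE hζ (pD_mem j v))) (fun j u hu => ?_) fun j => ?_
  · refine k j u (fun i hi => D_orth hi.symm hu (pD_mem i v)) ?_
    obtain ⟨x, y, w, rfl⟩ := hu
    simp only [map_add, map_smul, LinearMap.add_apply, LinearMap.smul_apply]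
    rw [D_hr j (pD_mem j v), h1, pD_apply, (BF_D j _ _ _).1, (BF_D j _ _ _).2.1]
  · exact k j _ (fun i hi => D_gam hi.symm (pD_mem i v)) (by rw [pD_apply, (BF_D j _ _ _).2.2])

/-- **`τ` is trivial on the last two `sl₂`** -/
theorem g2 (hζ : IsPrimitiveRoot ζ 3) (h : Fr1 φ ζ) (hR : Rep π (aH.comp φ)) (r3 : ∀ v ∈ Dr (ipj 3), aK (φ (W wr)) v = v) :
    (∀ v ∈ Dr (ipj 3), aK (φ (W [3])) v = v) ∧ ∀ v ∈ Dr (ipj 2), aK (φ (W [3])) v = v := by
  have nt := h.nft hζ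
  have ns := h.nfs hζ
  have nr := h.nfr hζ
  obtain ⟨c, hc⟩ := exists_log (r := φ (W [3])) (by rw [← map_mul, ← W_append, W_one (by decide +kernel), map_one])
  have key : ∀ ws, Nd BF (FW (aH.comp φ) ws) → ∀ u ∈ FW (aH.comp φ) ws, (∀ v ∈ FW (aH.comp φ) ws, BF u v = BF c v) →
      ∀ g g' : List ℕ, (mp ws ws g = true ∧ mp ws ws g' = true ∧ cw (g ++ g') = one ∧ cw (g ++ [3]) = cw ([3] ++ g)) →
      R (aH.comp φ) g u = u := fun ws hn u hu h1 g g' ⟨k1, k2, k3, k4⟩ => by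
    refine hn.ext (mp_spec k1 hu) hu fun v hv' => ?_
    have k5 : R (aH.comp φ) g c = c := hc.comm (by rw [← map_mul, ← map_mul, ← W_append, ← W_append, W_eq k4])
    have k6 : R (aH.comp φ) g (R (aH.comp φ) g' v) = v := by rw [R_eq2 (c := []) k3, R_nil]
    conv_lhs => rw [← k6]
    rw [h1 v hv', R, hR.inv, h1 _ (mp_spec k2 hv'), ← hR.inv (W g), ← R, k5, k6]
  obtain ⟨σ, hσ, hσ'⟩ := exists_pr hR.ndE c
  obtain ⟨u, hu, hu'⟩ := exists_pr hR.ndQ c
  have s1 : aK (φ (W [3])) σ = σ := key _ hR.ndE σ hσ hσ' [3] [3] (by decide +kernel)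
  have s2 : aK (φ (W [5])) σ = σ := key _ hR.ndE σ hσ hσ' [5] [5] (by decide +kernel)
  have u1 := key _ hR.ndQ u hu hu' we (we ++ we) (by decide +kernel)
  have u2 := key _ hR.ndQ u hu hu' [6] [6, 6, 6] (by decide +kernel)
  have u3 := key _ hR.ndQ u hu hu' [3] [3] (by decide +kernel)
  have hl : ∀ j, ∀ v ∈ Dr (ipj j), BF v σ ^ 2 = BF v (aK (φ (W [3])) v) := fun j v hv' => by
    rw [BF_symm, hσ' v (h.memE hζ hv'), hc]
  have s3 : ∀ j, BF (hr (ipj j)) σ = 0 := fun j => pow_eq_zero_iff two_ne_zero |>.1 (by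
    rw [hl j _ (hr_Dr _), nt.hr (j := ![1, 0, 2, 3] j) ok_l.1 (by revert j; decide +kernel), D_hr j (hr_Dr _)])
  have s4 : ∀ v ∈ Dr (ipj 0), BF v σ = 0 := fun v hv' => pow_eq_zero_iff two_ne_zero |>.1 (by
    rw [hl 0 v hv', D_orth (j := 1) (by decide) hv' (nt.Dr ok_l.1 (by decide +kernel) hv')])
  have hd := h.dec hζ hσ s3
  have e0 : pD 0 σ = BF (hr (gam 0)) σ • hr (ipj 0) := by
    rw [pD_apply, s4 _ (en_Dr _), s4 _ (er_Dr _), zero_smul, zero_smul, add_zero, zero_add]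
  have m0 := pD_mem 0 σ
  have m1 := pD_mem 1 σ
  have m2 := pD_mem 2 σ
  have m3 := pD_mem 3 σ
  have t0 := nt.Dr (j := 1) ok_l.1 (by decide +kernel) m0
  have t1 := nt.Dr (j := 0) ok_l.1 (by decide +kernel) m1
  have t2 := nt.Dr (j := 2) ok_l.1 (by decide +kernel) m2
  have t3 := nt.Dr (j := 3) ok_l.1 (by decide +kernel) m3
  have e1 : pD 1 σ = BF (hr (gam 0)) σ • hr (ipj 1) := by
    conv_lhs => rw [← s1, hd]
    rw [aK_add, aK_add, aK_add, map_add, map_add, map_add, pD_self t0, pD_ne (by decide) t1, pD_ne (by decide) t2,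
      pD_ne (by decide) t3, add_zero, add_zero, add_zero, e0, aK_smul, nt.hr (j := 1) ok_l.1 (by decide +kernel)]
  have e3 : R (aH.comp φ) [3] (pD 3 σ) = pD 3 σ := by
    conv_rhs => rw [← s1, hd]
    rw [aK_add, aK_add, aK_add, map_add, map_add, map_add, pD_self t3, pD_ne (by decide) t1, pD_ne (by decide) t2,
      pD_ne (by decide) t0, add_zero, add_zero, zero_add, R_aH]
  have e2 : pD 2 σ = R (aH.comp φ) [5] (pD 3 σ) := by
    conv_lhs => rw [← s2, hd]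
    rw [aK_add, aK_add, aK_add, map_add, map_add, map_add, pD_self (ns.Dr (j := 2) ok_l.2.2 (by decide +kernel) m3),
      pD_ne (by decide) (ns.Dr (j := 0) ok_l.2.2 (by decide +kernel) m0),
      pD_ne (by decide) (ns.Dr (j := 1) ok_l.2.2 (by decide +kernel) m1),
      pD_ne (by decide) (ns.Dr (j := 3) ok_l.2.2 (by decide +kernel) m2), add_zero, add_zero, zero_add, R_aH]
  have f3 : pD 3 σ ∈ FW (aH.comp φ) [[3], wr] := by
    simp only [mem_FW, List.forall_mem_cons]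
    exact ⟨e3, r3 _ m3, fun _ k => absurd k List.not_mem_nil⟩
  have x0 : R (aH.comp φ) wr (pD 2 σ) ∈ Dr (ipj 0) := nr.Dr ok_l.2.1 (by decide +kernel) m2
  have x1 : R (aH.comp φ) wr (R (aH.comp φ) wr (pD 2 σ)) ∈ Dr (ipj 1) := nr.Dr ok_l.2.1 (by decide +kernel) x0
  obtain ⟨y, hy⟩ : ∃ y, y = pD 3 σ + pD 2 σ + R (aH.comp φ) wr (pD 2 σ) + R (aH.comp φ) wr (R (aH.comp φ) wr (pD 2 σ)) :=
    ⟨_, rfl⟩
  have y1 : y ∈ FW (aH.comp φ) [wr, we, wd, wz] := by
    rw [FW_cons, hy]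
    refine ⟨Submodule.add_mem _ (Submodule.add_mem _ (Submodule.add_mem _ (h.memE hζ m3) (h.memE hζ m2)) (h.memE hζ x0))
      (h.memE hζ x1), mem_fx.2 ?_⟩
    rw [map_add, map_add, map_add, f3 wr (by simp), ← R_app wr wr (R _ wr _), R_eq2 (a := wr ++ wr) (c := []) (by decide +kernel),
      R_nil]
    abel
  have y2 : R (aH.comp φ) [5] y = y := by
    rw [hy, e2, map_add, map_add, map_add, R_eq2 (a := [5]) (b := [5]) (c := []) (by decide +kernel), R_nil]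
    simp only [← R_app]
    rw [md_spec (a := [5] ++ (wr ++ [5])) (b := wr ++ [5]) (by decide +kernel) f3,
      md_spec (a := [5] ++ (wr ++ (wr ++ [5]))) (b := wr ++ (wr ++ [5])) (by decide +kernel) f3, add_comm (R _ [5] _)]
  have hu4 : u ∈ FW (aH.comp φ) [wr, we, wd, wz] := by
    simp only [mem_FW, List.forall_mem_cons] at hu ⊢
    exact ⟨hu.1, u1, hu.2⟩
  have y3 : u = y := hR.ndR.ext hu4 y1 fun v hv' => by
    have a1 : ∀ x, BF (R (aH.comp φ) wr x) v = BF x v := fun x => by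
      conv_lhs => rw [← hv' wr List.mem_cons_self]
      exact hR.inv _ _ _
    have a2 : BF (hr (ipj 1)) v = BF (hr (ipj 0)) v := by
      rw [← a1 (hr (ipj 0)), R_aH, nr.hr (j := 1) ok_l.2.1 (by decide +kernel)]
    rw [hu' v (mp_le (by decide +kernel) hv'), ← hσ' v (mp_le (by decide +kernel) hv'), hy]
    conv_lhs => rw [hd, e0, e1]
    simp only [map_add, map_smul, LinearMap.add_apply, LinearMap.smul_apply]
    rw [a1, a1, a1, a2, kadd_self, zero_add, add_assoc _ (BF (pD 2 σ) v), kadd_self, add_zero, add_comm]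
  have y4 : y = 0 := hR.nf y (fix_all (by
    rw [FW_cons, FW_cons]
    exact ⟨⟨y1, mem_fx.2 ((R_app [3] [5] y).trans (by rw [y2, ← y3, u3]))⟩, mem_fx.2 (by rw [← y3, u2])⟩))
  have y5 : pD 3 σ = 0 := by
    have k := congrArg (pD 3) hy
    rw [y4, map_zero, map_add, map_add, map_add, pD_self m3, pD_ne (by decide) m2, pD_ne (by decide) x0, pD_ne (by decide) x1,
      add_zero, add_zero, add_zero] at k
    exact k.symm
  have tt : ∀ v, aK (φ (W [3])) (aK (φ (W [3])) v) = v := fun v => by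
    rw [← R_aH, ← R_aH, R_eq2 (c := []) (by decide +kernel), R_nil]
  obtain ⟨z1, z2, -⟩ := BF_D 3 (BF (er (239 - ipj 3)) σ) (BF (er (ipj 3)) σ) (BF (hr (gam 3)) σ)
  rw [← pD_apply, y5, map_zero] at z1 z2
  have w3 : ∀ v ∈ Dr (ipj 3), aK (φ (W [3])) v = v := fun v hv' => Dr_fix (ipj_lt 3)
    ((nil_nf ok_l.1 nt (inLB 3) (by decide +kernel)).fix (by decide) (tt _)
      (by rw [← hl 3 _ (er_Dr _), ← z2, zero_pow two_ne_zero]))
    ((nil_nf ok_l.1 nt (by decide +kernel) (by decide +kernel)).fix (by decide) (tt _)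
      (by rw [← hl 3 _ (en_Dr _), ← z1, zero_pow two_ne_zero])) hv'
  refine ⟨w3, fun v hv' => ?_⟩
  have k1 : R (aH.comp φ) [3] (R (aH.comp φ) [5] v) = R (aH.comp φ) [5] v := w3 _ (ns.Dr ok_l.2.2 (by decide +kernel) hv')
  rw [R_eq22 (c := [5]) (d := [3]) (by decide +kernel)] at k1
  exact R_inj [5] k1

end Cfsg.Agent.E82.U4
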